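import Groth.Agent.CohFin.Acyclic
import Mathlib.Algebra.Homology.Embedding.CochainComplex
import Mathlib.Algebra.Homology.HomotopyCategory.MappingCone
import Mathlib.Algebra.Homology.HomotopyCategory.Pretriangulated
import Mathlib.Algebra.Homology.HomotopyCategory.Acyclic

/-!
# Bounded below acyclic complexes of acyclic objects stay acyclic
-/

set_option autoImplicit false
set_option maxHeartbeats 1000000

universe v u v' u'

open CategoryTheory CategoryTheory.Limits
open Groth.CohFin Groth.CohBase

namespace Groth.Misc7.GSS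

variable {C : Type u} [Category.{v} C] [Abelian C] [EnoughInjectives C]
  {D : Type u'} [Category.{v'} D] [Abelian D]
  (F : C ⥤ D) [F.Additive] [PreservesFiniteLimits F]

omit [EnoughInjectives C] in
lemma cycles_shortExact (L : CochainComplex C ℤ) (hL : ∀ n, L.ExactAt n) (n m : ℤ) (h : n + 1 = m) :
    (ShortComplex.mk (L.iCycles n) (L.toCycles n m)
      (by rw [← cancel_mono (L.iCycles m), Category.assoc, L.toCycles_i, L.iCycles_d, zero_comp])).ShortExact := by
  subst h
  have hep : Epi (L.toCycles n (n + 1)) := by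
    have h := (L.exactAt_iff' n (n + 1) (n + 1 + 1) (by simp) (by simp)).1 (hL (n + 1))
    have h' : Epi (L.sc' n (n + 1) (n + 1 + 1)).toCycles := ShortComplex.exact_iff_epi_toCycles _ |>.1 h
    haveI : Epi (L.toCycles n (n + 1) ≫ (L.cyclesIsoSc' n (n + 1) (n + 1 + 1) (by simp) (by simp)).hom) := by
      rw [L.toCycles_cyclesIsoSc'_hom]
      exact h'
    exact (epi_comp_iff_of_isIso _ _).1 this
  refine { exact := ?_, mono_f := inferInstanceAs (Mono (L.iCycles n)), epi_g := hep }
  let T : ShortComplex C := ShortComplex.mk (L.iCycles n) (L.d n (n + 1)) (L.iCycles_d _ _)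
  have hT : T.Exact := T.exact_of_f_is_kernel (L.cyclesIsKernel n (n + 1) (by simp))
  let φ : ShortComplex.mk (L.iCycles n) (L.toCycles n (n + 1))
      (by rw [← cancel_mono (L.iCycles (n + 1)), Category.assoc, L.toCycles_i, L.iCycles_d, zero_comp]) ⟶ T :=
    { τ₁ := 𝟙 _
      τ₂ := 𝟙 _
      τ₃ := L.iCycles (n + 1)
      comm₁₂ := (Category.id_comp _).trans (Category.comp_id _).symm
      comm₂₃ := (Category.id_comp _).trans (L.toCycles_i _ _).symm }
  haveI : Mono φ.τ₃ := inferInstanceAs (Mono (L.iCycles (n + 1)))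
  haveI : Epi φ.τ₁ := inferInstanceAs (Epi (𝟙 _))
  haveI : IsIso φ.τ₂ := inferInstanceAs (IsIso (𝟙 _))
  exact (ShortComplex.exact_iff_of_epi_of_isIso_of_mono φ).2 hT

omit [PreservesFiniteLimits F] in
lemma rightAcyclic_of_isZero {A : C} (h : IsZero A) : RightAcyclic F A := fun j => by
  haveI : Injective A := h.injective
  exact F.isZero_rightDerived_obj_injective_succ j A

/-- A left exact functor preserves bounded below acyclic complexes of acyclic objects. -/
theorem exactAt_mapHomologicalComplex (L : CochainComplex C ℤ) (a : ℤ) [L.IsStrictlyGE a]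
    (hL : ∀ n, L.ExactAt n) (hA : ∀ n, RightAcyclic F (L.X n)) (n : ℤ) :
    ((F.mapHomologicalComplex (ComplexShape.up ℤ)).obj L).ExactAt n := by
  have hZ : ∀ (k : ℕ), RightAcyclic F (L.cycles (a - 1 + k)) := fun k => by
    induction k with
    | zero =>
      refine rightAcyclic_of_isZero F ?_
      have hz : IsZero (L.X (a - 1 + (0 : ℕ))) := L.isZero_of_isStrictlyGE a _ (by simp)
      exact IsZero.of_mono (L.iCycles _) hz
    | succ k ih =>
      intro j
      have hS := cycles_shortExact L hL (a - 1 + k) (a - 1 + (k + 1 : ℕ)) (by omega)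
      obtain ⟨e⟩ := nonempty_rightDerived_shift F j _ hS (hA _)
      exact IsZero.of_iso (ih (j + 1)) e.symm
  obtain ⟨n, rfl⟩ : ∃ m, n = m + 1 := ⟨n - 1, by omega⟩
  rw [HomologicalComplex.exactAt_iff' _ n (n + 1) (n + 1 + 1) (by simp) (by simp)]
  by_cases hn : n + 1 < a
  · exact ShortComplex.exact_of_isZero_X₂ _
      (F.map_isZero (L.isZero_of_isStrictlyGE a (n + 1) hn))
  obtain ⟨k, hk⟩ : ∃ k : ℕ, n = a - 1 + k := ⟨(n - (a - 1)).toNat, by omega⟩
  have hep : Epi (F.map (L.toCycles n (n + 1))) := by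
    subst hk
    obtain ⟨e⟩ := nonempty_rightDerived_one_iso (F := F) (cycles_shortExact L hL (a - 1 + k) _ rfl) (hA _)
    exact Preadditive.epi_of_isZero_cokernel _ ((hZ k 0).of_iso e.symm)
  rw [ShortComplex.exact_iff_exact_up_to_refinements]
  intro W x hx
  have hker : IsLimit (KernelFork.ofι (F.map (L.iCycles (n + 1)))
      (by rw [← F.map_comp, L.iCycles_d, F.map_zero] :
        F.map (L.iCycles (n + 1)) ≫ F.map (L.d (n + 1) (n + 1 + 1)) = 0)) :=
    KernelFork.mapIsLimit _ (L.cyclesIsKernel (n + 1) (n + 1 + 1) (by simp)) F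
  obtain ⟨z, hz⟩ := KernelFork.IsLimit.lift' hker x hx
  obtain ⟨W', π, hπ, y, hy⟩ := surjective_up_to_refinements_of_epi (F.map (L.toCycles n (n + 1))) z
  refine ⟨W', π, hπ, y, ?_⟩
  dsimp at hz ⊢
  rw [← hz]
  exact (Category.assoc _ _ _).symm.trans ((congrArg (· ≫ _) hy).trans ((Category.assoc _ _ _).trans
    (congrArg (y ≫ ·) ((F.map_comp _ _).symm.trans (congrArg F.map (L.toCycles_i _ _))))))

/-- A left exact functor preserves quasi-isomorphisms between bounded below complexes of acyclic objects. -/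
theorem quasiIso_mapHomologicalComplex {K L : CochainComplex C ℤ} (a : ℤ) [K.IsStrictlyGE a]
    [L.IsStrictlyGE a] (hK : ∀ n, RightAcyclic F (K.X n)) (hL : ∀ n, RightAcyclic F (L.X n))
    (φ : K ⟶ L) [QuasiIso φ] :
    QuasiIso ((F.mapHomologicalComplex (ComplexShape.up ℤ)).map φ) := by
  have hA : ∀ n, RightAcyclic F ((CochainComplex.mappingCone φ).X n) := fun n j =>
    ((rightAcyclic_biprod F (hK (n + 1)) (hL n)) j).of_iso ((F.rightDerived (j + 1)).mapIso
      (HomologicalComplex.homotopyCofiber.XIsoBiprod φ n (n + 1) rfl))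
  haveI : (CochainComplex.mappingCone φ).IsStrictlyGE (a - 1) := by
    rw [CochainComplex.isStrictlyGE_iff]
    intro i hi
    exact IsZero.of_iso (by simpa using ⟨K.isZero_of_isStrictlyGE a _ (by omega), L.isZero_of_isStrictlyGE a _ (by omega)⟩)
      (HomologicalComplex.homotopyCofiber.XIsoBiprod φ i (i + 1) rfl)
  let ψ := (F.mapHomologicalComplex (ComplexShape.up ℤ)).map φ
  have hac : ∀ n, (CochainComplex.mappingCone φ).ExactAt n := by
    rw [← HomotopyCategory.quotient_obj_mem_subcategoryAcyclic_iff_exactAt]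
    refine ((HomotopyCategory.subcategoryAcyclic C).trW_iff_of_distinguished _
      (HomotopyCategory.mappingCone_triangleh_distinguished φ)).1 ?_
    rw [← HomotopyCategory.quasiIso_eq_trW_subcategoryAcyclic]
    exact (HomotopyCategory.quotient_map_mem_quasiIso_iff φ).2 (show QuasiIso φ from inferInstance)
  have hac' : ∀ n, (CochainComplex.mappingCone ψ).ExactAt n := fun n =>
    (exactAt_mapHomologicalComplex F _ (a - 1) hac hA n).of_iso
      (CochainComplex.mappingCone.mapHomologicalComplexIso φ F)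
  rw [← HomotopyCategory.quotient_obj_mem_subcategoryAcyclic_iff_exactAt] at hac'
  refine (HomotopyCategory.quotient_map_mem_quasiIso_iff ψ).1 ?_
  rw [HomotopyCategory.quasiIso_eq_trW_subcategoryAcyclic]
  exact ((HomotopyCategory.subcategoryAcyclic D).trW_iff_of_distinguished _
    (HomotopyCategory.mappingCone_triangleh_distinguished ψ)).2 hac'

end Groth.Misc7.GSS
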