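import Groth.Agent.Misc7.GSS.Rplus
import Mathlib.CategoryTheory.Abelian.Injective.Extend
import Mathlib.CategoryTheory.Abelian.RightDerived
import Mathlib.Algebra.Homology.Embedding.ExtendHomology

/-!
# The homology of the derived functor on `D^+`
-/

set_option autoImplicit false
set_option maxHeartbeats 2000000
set_option synthInstance.maxHeartbeats 400000

universe v u v' u'

open CategoryTheory CategoryTheory.Limits CategoryTheory.Pretriangulated HomologicalComplex

attribute [local instance] HasDerivedCategory.standard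

namespace Groth.Misc7.GSS

section

variable {C : Type u} [Category.{v} C] [Preadditive C] [HasZeroObject C]
  {D : Type u'} [Category.{v'} D] [Preadditive D] [HasZeroObject D] (F : C ⥤ D) [F.Additive]
  (K : CochainComplex C ℕ)

open Classical in
/-- Components of `mapExtendIso`. -/
noncomputable def mapExtendXIso (n : ℤ) :
    F.obj ((K.extend ComplexShape.embeddingUpNat).X n) ≅
      (((F.mapHomologicalComplex _).obj K).extend ComplexShape.embeddingUpNat).X n :=
  if h : ∃ k : ℕ, (k : ℤ) = n then
    F.mapIso (K.extendXIso ComplexShape.embeddingUpNat h.choose_spec) ≪≫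
      (((F.mapHomologicalComplex _).obj K).extendXIso ComplexShape.embeddingUpNat h.choose_spec).symm
  else
    IsZero.iso (F.map_isZero (K.isZero_extend_X ComplexShape.embeddingUpNat n fun k hk => h ⟨k, hk⟩))
      (((F.mapHomologicalComplex _).obj K).isZero_extend_X ComplexShape.embeddingUpNat n fun k hk => h ⟨k, hk⟩)

lemma mapExtendXIso_eq (n : ℤ) (k : ℕ) (hk : (k : ℤ) = n) :
    mapExtendXIso F K n = F.mapIso (K.extendXIso ComplexShape.embeddingUpNat hk) ≪≫
      (((F.mapHomologicalComplex _).obj K).extendXIso ComplexShape.embeddingUpNat hk).symm := by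
  have h : ∃ k : ℕ, (k : ℤ) = n := ⟨k, hk⟩
  obtain rfl : k = h.choose := by have := h.choose_spec; omega
  rw [mapExtendXIso, dif_pos h]

/-- Extension by zero commutes with additive functors. -/
noncomputable def mapExtendIso :
    (F.mapHomologicalComplex _).obj (K.extend ComplexShape.embeddingUpNat) ≅
      ((F.mapHomologicalComplex _).obj K).extend ComplexShape.embeddingUpNat :=
  HomologicalComplex.Hom.isoOfComponents (mapExtendXIso F K) (by
    intro i j hij
    by_cases hi : ∃ k : ℕ, (k : ℤ) = i
    · obtain ⟨k, hk⟩ := hi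
      have hj : ((k + 1 : ℕ) : ℤ) = j := by simp at hij ⊢; omega
      rw [mapExtendXIso_eq F K i k hk, mapExtendXIso_eq F K j (k + 1) hj]
      rw [HomologicalComplex.extend_d_eq _ _ hk hj]
      simp only [Functor.mapHomologicalComplex_obj_d, HomologicalComplex.extend_d_eq K ComplexShape.embeddingUpNat hk hj,
        Iso.trans_hom, Iso.symm_hom, Functor.mapIso_hom, Functor.map_comp, Category.assoc,
        Iso.inv_hom_id_assoc, Iso.map_inv_hom_id_assoc]
      erw [Category.assoc, Iso.inv_hom_id_assoc, Category.assoc, Category.assoc, Iso.map_inv_hom_id_assoc]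
      rfl
    · exact (F.map_isZero (K.isZero_extend_X ComplexShape.embeddingUpNat i fun k hk => hi ⟨k, hk⟩)).eq_of_src _ _)

end

variable {C : Type u} [Category.{v} C] [Abelian C] [EnoughInjectives C]
  {D : Type u'} [Category.{v'} D] [Abelian D] (F : C ⥤ D) [F.Additive]

/-- The `n`-th derived object on `D^+`. -/
noncomputable abbrev RH (n : ℤ) : DerivedCategory.Plus C ⥤ D :=
  RK F ⋙ HomotopyCategory.homologyFunctor D (ComplexShape.up ℤ) n

lemma nonempty_RH_iso (Y : DerivedCategory.Plus C) (L : CochainComplex.Plus (InjectiveObject C))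
    (e : DerivedCategory.Plus.Q.obj ((InjectiveObject.ι C).mapCochainComplexPlus.obj L) ≅ Y) (n : ℤ) :
    Nonempty ((RH F n).obj Y ≅
      (((InjectiveObject.ι C ⋙ F).mapHomologicalComplex (ComplexShape.up ℤ)).obj L.obj).homology n) :=
  ⟨(RH F n).mapIso e.symm ≪≫
    ((InjectiveObject.ι C ⋙ F).mapHomotopyCategoryPlus ⋙ HomotopyCategory.Plus.ι D ⋙
      HomotopyCategory.homologyFunctor D (ComplexShape.up ℤ) n).mapIso
        ((injQ C).asEquivalence.unitIso.app ((HomotopyCategory.Plus.quotient _).obj L)).symm ≪≫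
    (HomotopyCategory.homologyFunctorFactors D (ComplexShape.up ℤ) n).app _⟩

lemma isZero_RH (Y : DerivedCategory.Plus C) (a n : ℤ) [Y.IsGE a] (hn : n < a) :
    IsZero ((RH F n).obj Y) := by
  obtain ⟨L, hL, ⟨e⟩⟩ := DerivedCategory.Plus.exists_injective_nonempty_iso Y a
  obtain ⟨i⟩ := nonempty_RH_iso F Y L e n
  refine IsZero.of_iso ?_ i
  refine (ShortComplex.exact_iff_isZero_homology _).1 (ShortComplex.exact_of_isZero_X₂ _ ?_)
  exact (InjectiveObject.ι C ⋙ F).map_isZero (L.obj.isZero_of_isStrictlyGE a n hn)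

lemma nonempty_RH_single_zero (M : C) (n : ℕ) :
    Nonempty ((RH F n).obj ((DerivedCategory.Plus.singleFunctor C 0).obj M) ≅ (F.rightDerived n).obj M) := by
  let R := injectiveResolution M
  let L' : CochainComplex (InjectiveObject C) ℤ :=
    HomologicalComplex.liftObjectProperty _ R.cochainComplex (fun n => inferInstanceAs (Injective (R.cochainComplex.X n)))
  have hL' : L'.IsStrictlyGE 0 := by
    rw [← CochainComplex.isStrictlyGE_mapHomologicalComplex_obj_iff _ (InjectiveObject.ι _)]
    exact inferInstanceAs (R.cochainComplex.IsStrictlyGE 0)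
  let L : CochainComplex.Plus (InjectiveObject C) := ⟨L', 0, hL'⟩
  have e : DerivedCategory.Plus.Q.obj ((InjectiveObject.ι C).mapCochainComplexPlus.obj L) ≅
      (DerivedCategory.Plus.singleFunctor C 0).obj M :=
    DerivedCategory.Plus.ι.preimageIso ((DerivedCategory.quotientCompQhIso C).app _ ≪≫
      (asIso (DerivedCategory.Q.map R.ι')).symm ≪≫
      ((DerivedCategory.singleFunctorIsoCompQ C 0).app M).symm)
  obtain ⟨i⟩ := nonempty_RH_iso F _ L e (n : ℤ)
  exact ⟨i ≪≫ (HomologicalComplex.homologyFunctor D _ (n : ℤ)).mapIso (mapExtendIso F R.cocomplex) ≪≫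
    ((F.mapHomologicalComplex _).obj R.cocomplex).extendHomologyIso ComplexShape.embeddingUpNat rfl ≪≫
    (R.isoRightDerivedObj F n).symm⟩

lemma nonempty_RH_shift (Y : DerivedCategory.Plus C) (a n n' : ℤ) (h : a + n = n') :
    Nonempty ((RH F n).obj (Y⟦a⟧) ≅ (RH F n').obj Y) :=
  ⟨(HomotopyCategory.homologyFunctor D (ComplexShape.up ℤ) n).mapIso (((RK F).commShiftIso a).app Y) ≪≫
    ((HomotopyCategory.homologyFunctor D (ComplexShape.up ℤ) 0).shiftIso a n n' h).app _⟩

lemma nonempty_RH_single (M : C) (m n : ℤ) (k : ℕ) (h : n = m + k) :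
    Nonempty ((RH F n).obj ((DerivedCategory.Plus.singleFunctor C m).obj M) ≅ (F.rightDerived k).obj M) := by
  obtain ⟨i⟩ := nonempty_RH_shift F ((DerivedCategory.Plus.singleFunctor C 0).obj M) (-m) n k (by omega)
  obtain ⟨j⟩ := nonempty_RH_single_zero F M k
  exact ⟨(RH F n).mapIso (((DerivedCategory.Plus.singleFunctors C).shiftIso (-m) m 0 (by omega)).app M).symm ≪≫
    i ≪≫ j⟩

end Groth.Misc7.GSS
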