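import Mathlib.CategoryTheory.Triangulated.SpectralObject
import Mathlib.CategoryTheory.Triangulated.HomologicalFunctor
import Mathlib.Algebra.Homology.SpectralObject.Basic

/-!
# The spectral object obtained by applying a homological functor
-/

set_option autoImplicit false
set_option maxHeartbeats 1000000

universe v u v' u' v'' u''

open CategoryTheory CategoryTheory.Limits CategoryTheory.Pretriangulated CategoryTheory.ComposableArrows

namespace Groth.Misc7.GSS

variable {T : Type u} [Category.{v} T] [HasZeroObject T] [HasShift T ℤ] [Preadditive T]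
  [∀ n : ℤ, (shiftFunctor T n).Additive] [Pretriangulated T]
  {A : Type u'} [Category.{v'} A] [Abelian A]
  {ι : Type u''} [Category.{v''} ι]
  (X : Triangulated.SpectralObject T ι) (F : T ⥤ A) [F.IsHomological] [F.ShiftSequence ℤ]

/-- Apply a homological functor to a spectral object. -/
@[simps H]
noncomputable def mapHomological : CategoryTheory.Abelian.SpectralObject A ι where
  H n := X.ω₁ ⋙ F.shift n
  δ' n₀ n₁ h :=
    { app := fun D => F.homologySequenceδ (X.ω₂.obj D) n₀ n₁ h
      naturality := fun D D' φ => F.homologySequenceδ_naturality _ _ (X.ω₂.map φ) n₀ n₁ h }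
  exact₁' n₀ n₁ h D :=
    (F.homologySequence_exact₁ _ (X.ω₂_obj_distinguished D) n₀ n₁ h).exact_toComposableArrows
  exact₂' n D :=
    (F.homologySequence_exact₂ _ (X.ω₂_obj_distinguished D) n).exact_toComposableArrows
  exact₃' n₀ n₁ h D :=
    (F.homologySequence_exact₃ _ (X.ω₂_obj_distinguished D) n₀ n₁ h).exact_toComposableArrows

end Groth.Misc7.GSS
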