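import Groth.Agent.Misc7.GSS.Grothendieck
import Mathlib.CategoryTheory.Abelian.Injective.Resolution

/-!
# The Grothendieck spectral sequence of a composite of functors (existence form)
-/

set_option autoImplicit false
set_option maxHeartbeats 2000000
set_option synthInstance.maxHeartbeats 400000

universe v u v' u' v'' u''

open CategoryTheory CategoryTheory.Limits

attribute [local instance] HasDerivedCategory.standard

namespace Groth.Misc7.GSS

lemma enoughInjectives_of_hasInjectiveResolutions (C : Type u) [Category.{v} C] [Abelian C]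
    [HasInjectiveResolutions C] : EnoughInjectives C :=
  ⟨fun X => ⟨{ J := (injectiveResolution X).cocomplex.X 0, f := (injectiveResolution X).ι.f 0,
               mono := mono_of_isLimit_fork (injectiveResolution X).isLimitKernelFork }⟩⟩

variable {A : Type u} [Category.{v} A] [Abelian A] [HasInjectiveResolutions A]
  {B : Type u'} [Category.{v'} B] [Abelian B] [HasInjectiveResolutions B]
  {D : Type u''} [Category.{v''} D] [Abelian D]

/-- The spectral sequence `R^p S (R^q T) ⇒ R^{p+q} (T ⋙ S)`, with prescribed abutment and first page. -/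
theorem exists_composite (T : A ⥤ B) [T.Additive] (S : B ⥤ D) [S.Additive] [PreservesFiniteLimits S]
    (hT : ∀ Q : A, Injective Q → ∀ q : ℕ, IsZero ((S.rightDerived (q + 1)).obj (T.obj Q))) (X : A)
    (H : ℤ → D) (hH : ∀ n : ℕ, Nonempty (((T ⋙ S).rightDerived n).obj X ≅ H n))
    (hH' : ∀ n : ℤ, n < 0 → IsZero (H n))
    (P : ℤ → ℤ → D) (hP : ∀ p q : ℕ, Nonempty ((S.rightDerived p).obj ((T.rightDerived q).obj X) ≅ P p q))
    (hP' : ∀ p q : ℤ, ¬ (0 ≤ p ∧ 0 ≤ q) → IsZero (P p q)) :
    ∃ (E : E₂CohomologicalSpectralSequence D) (a : SpSeq.Abutment E H),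
      (∀ n, a.IsFinite n) ∧ SpSeq.IsBounded E ∧
      ∀ p q : ℤ, Nonempty ((E.page 2 le_rfl).X (p, q) ≅ P p q) := by
  haveI := enoughInjectives_of_hasInjectiveResolutions B
  let R := injectiveResolution X
  let K₀ := (T.mapHomologicalComplex (ComplexShape.up ℤ)).obj R.cochainComplex
  haveI hK₀ : CochainComplex.IsStrictlyGE K₀ 0 := inferInstance
  let K : CochainComplex.Plus B := ⟨K₀, 0, hK₀⟩
  haveI : CochainComplex.IsStrictlyGE K.obj 0 := hK₀
  have hK : ∀ n, Groth.CohFin.RightAcyclic S (K.obj.X n) := fun n j =>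
    hT (R.cochainComplex.X n) inferInstance j
  have eH : ∀ n, Nonempty (((S.mapHomologicalComplex (ComplexShape.up ℤ)).obj K.obj).homology n ≅ H n) := by
    intro n
    by_cases hn : 0 ≤ n
    · obtain ⟨k, rfl⟩ := Int.eq_ofNat_of_zero_le hn
      obtain ⟨i⟩ := hH k
      exact ⟨(HomologicalComplex.homologyFunctor D _ (k : ℤ)).mapIso
          (mapExtendIso (T ⋙ S) R.cocomplex) ≪≫
        (((T ⋙ S).mapHomologicalComplex _).obj R.cocomplex).extendHomologyIso ComplexShape.embeddingUpNat rfl ≪≫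
        (R.isoRightDerivedObj (T ⋙ S) k).symm ≪≫ i⟩
    · refine ⟨IsZero.iso ((ShortComplex.exact_iff_isZero_homology _).1
        (ShortComplex.exact_of_isZero_X₂ _ ?_)) (hH' n (not_le.1 hn))⟩
      exact S.map_isZero (K.obj.isZero_of_isStrictlyGE 0 n (not_le.1 hn))
  obtain ⟨E, a, h1, h2, h3, h4⟩ := exists_grothendieck S K hK H eH
  refine ⟨E, a, h1, h2, fun p q => ?_⟩
  by_cases h : 0 ≤ p ∧ 0 ≤ q
  · obtain ⟨k, rfl⟩ := Int.eq_ofNat_of_zero_le h.1
    obtain ⟨l, rfl⟩ := Int.eq_ofNat_of_zero_le h.2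
    obtain ⟨i⟩ := h3 k l
    obtain ⟨j⟩ := hP k l
    exact ⟨i ≪≫ (S.rightDerived k).mapIso
      ((HomologicalComplex.homologyFunctor B _ (l : ℤ)).mapIso (mapExtendIso T R.cocomplex) ≪≫
        ((T.mapHomologicalComplex _).obj R.cocomplex).extendHomologyIso ComplexShape.embeddingUpNat rfl ≪≫
        (R.isoRightDerivedObj T l).symm) ≪≫ j⟩
  · refine ⟨IsZero.iso (h4 p q ?_) (hP' p q h)⟩
    omega

end Groth.Misc7.GSS
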