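import Groth.Agent.SiteCohomology.HigherDirectImage
import Groth.Agent.SiteCohomology.ModulesGrothendieck

/-!
# Cohomology over an object as derived functors of sections
-/

set_option autoImplicit false
set_option maxHeartbeats 1000000
set_option synthInstance.maxHeartbeats 400000

universe u

open CategoryTheory CategoryTheory.Limits Opposite

namespace Groth.Misc7.GSS

variable {C : Type u} [SmallCategory C] {J : GrothendieckTopology C}

/-- Sections over an object. -/
noncomputable abbrev sectAb (J : GrothendieckTopology C) (V : C) :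
    Sheaf J AddCommGrpCat.{u} ⥤ AddCommGrpCat.{u} :=
  sheafToPresheaf J AddCommGrpCat.{u} ⋙ (evaluation _ _).obj (op V)

/-- The derived functors of sections are cohomology. -/
theorem nonempty_rightDerived_sectAb_iso (M : Sheaf J AddCommGrpCat.{u}) (n : ℕ) (V : C) :
    Nonempty (((sectAb J V).rightDerived n).obj M ≅ AddCommGrpCat.of (CohSite.HU M n V)) := by
  obtain ⟨e⟩ := Groth.SiteCohomology.nonempty_rightDerivedSheafToPresheaf_iso M n
  obtain ⟨f⟩ := Groth.SiteCohomology.nonempty_rightDerived_comp_exact (sheafToPresheaf J AddCommGrpCat.{u})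
    ((evaluation Cᵒᵖ AddCommGrpCat.{u}).obj (op V)) (sectAb J V) (Iso.refl _) M n
  exact ⟨f ≪≫ e.app (op V)⟩

end Groth.Misc7.GSS
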