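import Mathlib.Algebra.Homology.SpectralObject.SpectralSequence
import Mathlib.Algebra.Homology.SpectralObject.FirstPage
import Mathlib.CategoryTheory.Abelian.Refinements
import Mathlib.Order.Interval.Finset.Basic
import Mathlib.Order.Interval.Set.LinearOrder
import Mathlib.Data.Int.Interval
import Groth.Prelude.Def_SpSeq

/-!
# The abutment of the spectral sequence of a first quadrant spectral object

For a first quadrant spectral object `Y` indexed by `EInt`, the spectral sequence `Y.E₂SpectralSequence`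
is bounded and abuts to the objects `H^n(⊥ ≤ ⊤)` with finite filtrations.
-/

set_option autoImplicit false
set_option maxHeartbeats 1000000

universe v u

open CategoryTheory CategoryTheory.Limits CategoryTheory.ComposableArrows
open CategoryTheory.Abelian CategoryTheory.Abelian.SpectralObject

namespace Groth.Misc7.GSS

variable {C : Type u} [Category.{v} C] [Abelian C]

/-- The sequence `A ⊞ K → B → im b / im a` is exact, with epimorphic last map. -/
lemma exists_subquot_iso {A K B T : C} (f : A ⊞ K ⟶ B) (b : B ⟶ T)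
    (w : biprod.inr ≫ f ≫ b = 0) (hK : (ShortComplex.mk (biprod.inr ≫ f) b (by simpa using w)).Exact)
    {E : C} (g : B ⟶ E) (hfg : f ≫ g = 0) (hE : (ShortComplex.mk f g hfg).Exact) [Epi g]
    (S S' : Subobject T) (hS : S = imageSubobject b) (hS' : S' = imageSubobject (biprod.inl ≫ f ≫ b))
    (hle : S' ≤ S) : Nonempty (E ≅ SpSeq.subquot S S' hle) := by
  subst hS hS'
  let a := biprod.inl ≫ f ≫ b
  let π := cokernel.π ((imageSubobject a).ofLE (imageSubobject b) hle)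
  have hu : factorThruImageSubobject a ≫ (imageSubobject a).ofLE (imageSubobject b) hle =
      (biprod.inl ≫ f) ≫ factorThruImageSubobject b := by
    rw [← cancel_mono (imageSubobject b).arrow, Category.assoc, Subobject.ofLE_arrow,
      imageSubobject_arrow_comp, Category.assoc, imageSubobject_arrow_comp, Category.assoc]
  have h0 : f ≫ factorThruImageSubobject b ≫ π = 0 := by
    refine biprod.hom_ext' _ _ ?_ ?_
    · rw [comp_zero, ← Category.assoc biprod.inl f, ← Category.assoc (biprod.inl ≫ f), ← hu, Category.assoc]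
      simp [π]
    · have : biprod.inr ≫ f ≫ factorThruImageSubobject b = 0 := by
        rw [← cancel_mono (imageSubobject b).arrow]
        simpa using w
      rw [comp_zero, reassoc_of% this, zero_comp]
  have he : (ShortComplex.mk f (factorThruImageSubobject b ≫ π) h0).Exact := by
    rw [ShortComplex.exact_iff_exact_up_to_refinements]
    intro W x hx
    dsimp at x hx
    let T' := ShortComplex.mk ((imageSubobject a).ofLE (imageSubobject b) hle) π (cokernel.condition _)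
    have hT' : T'.Exact := T'.exact_of_g_is_cokernel (cokernelIsCokernel _)
    obtain ⟨W₁, p₁, _, y, hy⟩ := hT'.exact_up_to_refinements (x ≫ factorThruImageSubobject b)
      (by simpa [T'] using hx)
    dsimp [T'] at y hy
    obtain ⟨W₂, p₂, _, z, hz⟩ := surjective_up_to_refinements_of_epi (factorThruImageSubobject a) y
    have h1 : (p₂ ≫ p₁ ≫ x - z ≫ biprod.inl ≫ f) ≫ b = 0 := by
      rw [Preadditive.sub_comp, sub_eq_zero]
      have h2 := p₂ ≫= hy
      rw [reassoc_of% hz, hu] at h2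
      simpa using h2 =≫ (imageSubobject b).arrow
    obtain ⟨W₃, p₃, _, k, hk⟩ := hK.exact_up_to_refinements _ h1
    dsimp at k hk
    refine ⟨W₃, p₃ ≫ p₂ ≫ p₁, inferInstance, p₃ ≫ z ≫ biprod.inl + k ≫ biprod.inr, ?_⟩
    dsimp
    rw [Preadditive.add_comp, Category.assoc k, ← hk]
    simp
  exact ⟨hE.gIsCokernel.coconePointUniqueUpToIso he.gIsCokernel⟩

variable (Y : SpectralObject C EInt) [Y.IsFirstQuadrant]

section

variable {n : ℤ}

/-- The map `H^n(⊥ ≤ j) ⟶ H^n(⊥ ≤ ⊤)`. -/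
noncomputable def toTot (n : ℤ) (j : EInt) :
    (Y.H n).obj (mk₁ (homOfLE (bot_le : ⊥ ≤ j))) ⟶ (Y.H n).obj (mk₁ (homOfLE (bot_le : (⊥ : EInt) ≤ ⊤))) :=
  (Y.H n).map (twoδ₂Toδ₁' ⊥ j ⊤ bot_le le_top)

omit [Y.IsFirstQuadrant] in
lemma map_toTot (n : ℤ) {i j : EInt} (h : i ≤ j) :
    (Y.H n).map (twoδ₂Toδ₁' ⊥ i j bot_le h) ≫ toTot Y n j = toTot Y n i := by
  rw [toTot, toTot, ← Functor.map_comp]
  congr 1

lemma epi_toTot (n : ℤ) (j : EInt) (hj : (n : EInt) < j) : Epi (toTot Y n j) :=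
  (Y.exact₂ (homOfLE (bot_le : ⊥ ≤ j)) (homOfLE le_top) (homOfLE bot_le) rfl n).epi_f
    ((Y.isZero₂_of_isFirstQuadrant _ _ le_top n hj).eq_of_tgt _ _)

variable (H : ℤ → C) (e : ∀ n, (Y.H n).obj (mk₁ (homOfLE (bot_le : (⊥ : EInt) ≤ ⊤))) ≅ H n)

/-- The image of `H^n(⊥ ≤ j)` in the abutment. -/
noncomputable def filAt (n : ℤ) (j : EInt) : Subobject (H n) :=
  imageSubobject (toTot Y n j ≫ (e n).hom)

/-- The filtration on the abutment. -/
noncomputable def fil (n p : ℤ) : Subobject (H n) := filAt Y H e n ((n - p + 1 : ℤ) : EInt)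

omit [Y.IsFirstQuadrant] in
lemma filAt_mono (n : ℤ) {i j : EInt} (h : i ≤ j) : filAt Y H e n i ≤ filAt Y H e n j := by
  exact SpSeq.FilCx.imageSubobject_le_of_fac ((Y.H n).map (twoδ₂Toδ₁' ⊥ i j bot_le h))
    (by rw [← Category.assoc, map_toTot])

omit [Y.IsFirstQuadrant] in
lemma fil_anti (n : ℤ) : Antitone (fil Y H e n) := fun p p' hp =>
  filAt_mono Y H e n (by simp; lia)

lemma filAt_eq_top (n : ℤ) (j : EInt) (hj : (n : EInt) < j) : filAt Y H e n j = ⊤ := by
  have := epi_toTot Y n j hj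
  have h1 : Epi ((imageSubobject (toTot Y n j ≫ (e n).hom)).arrow) :=
    epi_of_epi_fac (imageSubobject_arrow_comp (toTot Y n j ≫ (e n).hom))
  have h2 : IsIso ((imageSubobject (toTot Y n j ≫ (e n).hom)).arrow) := isIso_of_mono_of_epi _
  exact @Subobject.eq_top_of_isIso_arrow _ _ _ _ h2

omit [Y.IsFirstQuadrant] in
/-- The graded pieces of the filtration are the limit terms of the spectral sequence. -/
lemma nonempty_gr_iso (n p q : ℤ) (hq : q = n - p) :
    Nonempty (Y.E (homOfLE (bot_le : ⊥ ≤ (q : EInt))) (homOfLE (show (q : EInt) ≤ ((q + 1 : ℤ) : EInt) by simp))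
      (homOfLE (le_top : ((q + 1 : ℤ) : EInt) ≤ ⊤)) (n - 1) n (n + 1) ≅
      SpSeq.grPiece (fil Y H e n) (fil_anti Y H e n) p) := by
  have h01 : (q : EInt) ≤ ((q + 1 : ℤ) : EInt) := by simp
  let S := Y.cokernelSequenceE (homOfLE (bot_le : ⊥ ≤ (q : EInt))) (homOfLE h01)
    (homOfLE (le_top : ((q + 1 : ℤ) : EInt) ≤ ⊤)) (homOfLE bot_le) rfl (n - 1) n (n + 1)
  have hS : S.Exact := Y.cokernelSequenceE_exact ..
  let A := (Y.H n).obj (mk₁ (homOfLE (bot_le : ⊥ ≤ (q : EInt))))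
  let K := (Y.H (n - 1)).obj (mk₁ (homOfLE (le_top : ((q + 1 : ℤ) : EInt) ≤ ⊤)))
  let B := (Y.H n).obj (mk₁ (homOfLE (bot_le : ⊥ ≤ ((q + 1 : ℤ) : EInt))))
  let f : A ⊞ K ⟶ B := S.f
  let b : B ⟶ H n := toTot Y n ((q + 1 : ℤ) : EInt) ≫ (e n).hom
  have hr : biprod.inr ≫ f = Y.δ _ _ (n - 1) n := biprod.inr_desc _ _
  have hl : biprod.inl ≫ f = (Y.H n).map (twoδ₂Toδ₁' ⊥ _ _ bot_le h01) := biprod.inl_desc _ _
  have w0 : biprod.inr ≫ f ≫ toTot Y n _ = 0 := by
    rw [reassoc_of% hr]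
    exact Y.zero₁ _ _ (homOfLE bot_le) rfl (n - 1) n
  have w : biprod.inr ≫ f ≫ b = 0 := by
    simp only [b, reassoc_of% w0, zero_comp]
  have hepi : Epi S.g := by unfold S; infer_instance
  refine @exists_subquot_iso _ _ _ _ _ _ _ f b w ?_ _ S.g S.zero hS hepi _ _
    (congrArg (fun k : ℤ => filAt Y H e n (k : EInt)) (show n - p + 1 = q + 1 by lia))
    ((congrArg (fun k : ℤ => filAt Y H e n (k : EInt)) (show n - (p + 1) + 1 = q by lia)).trans ?_) _
  · have h1 := Y.exact₁ (homOfLE (bot_le : ⊥ ≤ ((q + 1 : ℤ) : EInt))) (homOfLE le_top) (homOfLE bot_le) rfl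
      (n - 1) n
    refine (ShortComplex.exact_iff_of_iso (ShortComplex.isoMk (Iso.refl _) (Iso.refl _) (e n) ?_ ?_ :
      Y.sc₁ _ _ _ rfl (n - 1) n ≅ ShortComplex.mk (biprod.inr ≫ f) b (by simpa using w))).1 h1
    · exact (Category.id_comp _).trans (hr.trans (Category.comp_id _).symm)
    · exact Category.id_comp _
  · have : toTot Y n (q : EInt) ≫ (e n).hom = biprod.inl ≫ f ≫ b := by
      simp only [b, reassoc_of% hl, ← map_toTot Y n h01, Category.assoc]
    unfold filAt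
    simp only [this]

lemma filAt_eq_bot (n : ℤ) (j : EInt) (hj : j ≤ ((0 : ℤ) : EInt)) : filAt Y H e n j = ⊥ := by
  have h := Y.isZero₁_of_isFirstQuadrant _ _ (bot_le : ⊥ ≤ j) hj n
  simp only [filAt, h.eq_of_src (toTot Y n j ≫ (e n).hom) 0, imageSubobject_zero]

lemma isZero_page_of_not_mem (r : ℤ) (hr : 2 ≤ r) (pq : ℤ × ℤ) (h : pq.1 < 0 ∨ pq.2 < 0) :
    IsZero (((Y.spectralSequence coreE₂Cohomological).page r hr).X pq) := by
  refine SpectralObject.isZero_spectralSequence_page_X_of_isZero_H' _ _ _ hr _ ?_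
  rcases h with h | h
  · exact Y.isZero₂_of_isFirstQuadrant _ _ _ _ (by simp; lia)
  · exact Y.isZero₁_of_isFirstQuadrant _ _ _ (by simp; lia) _

/-- On the late pages the terms are the limit terms. -/
lemma nonempty_page_iso (r : ℤ) (hr : 2 ≤ r) (p q : ℤ) (hq : q + 2 ≤ r) (hp : p + 2 ≤ r) :
    Nonempty (((Y.spectralSequence coreE₂Cohomological).page r hr).X (p, q) ≅
      Y.E (homOfLE (bot_le : ⊥ ≤ (q : EInt))) (homOfLE (show (q : EInt) ≤ ((q + 1 : ℤ) : EInt) by simp))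
        (homOfLE (le_top : ((q + 1 : ℤ) : EInt) ≤ ⊤)) (p + q - 1) (p + q) (p + q + 1)) := by
  have h01 : ((q - r + 2 : ℤ) : EInt) ≤ (q : EInt) := by simp; lia
  have h12 : (q : EInt) ≤ ((q + 1 : ℤ) : EInt) := by simp
  have h23 : ((q + 1 : ℤ) : EInt) ≤ ((q + r - 1 : ℤ) : EInt) := by simp; lia
  have hA : IsIso (Y.mapFourδ₁Toδ₀' ⊥ ((q - r + 2 : ℤ) : EInt) (q : EInt) ((q + 1 : ℤ) : EInt)
      ((q + r - 1 : ℤ) : EInt) bot_le h01 h12 h23 (p + q - 1) (p + q) (p + q + 1)) :=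
    Y.isIso_map_fourδ₁Toδ₀_of_isZero _ _ _ _ _ _ _ _ _
      (Y.isZero₁_of_isFirstQuadrant _ _ bot_le (by simp; lia) _)
  have hB : IsIso (Y.mapFourδ₄Toδ₃' ⊥ (q : EInt) ((q + 1 : ℤ) : EInt) ((q + r - 1 : ℤ) : EInt) ⊤
      bot_le h12 h23 le_top (p + q - 1) (p + q) (p + q + 1)) :=
    Y.isIso_map_fourδ₄Toδ₃_of_isZero _ _ _ _ _ _ _ _ _
      (Y.isZero₂_of_isFirstQuadrant _ _ le_top _ (by simp; lia))
  exact ⟨Y.spectralSequencePageXIso coreE₂Cohomological r hr (p, q) ((q - r + 2 : ℤ) : EInt) (q : EInt)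
      ((q + 1 : ℤ) : EInt) ((q + r - 1 : ℤ) : EInt) rfl rfl rfl rfl (p + q - 1) (p + q) (p + q + 1) rfl ≪≫
    (@asIso _ _ _ _ _ hA).symm ≪≫ @asIso _ _ _ _ _ hB⟩

include e in
/-- The spectral sequence of a first quadrant spectral object is bounded, with finite abutment. -/
theorem exists_spectralSequence :
    ∃ (E : E₂CohomologicalSpectralSequence C) (a : SpSeq.Abutment E H),
      (∀ n, a.IsFinite n) ∧ SpSeq.IsBounded E ∧
      (∀ p q : ℤ, Nonempty ((E.page 2 le_rfl).X (p, q) ≅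
        (Y.H (p + q)).obj (mk₁ (homOfLE (show (q : EInt) ≤ ((q + 1 : ℤ) : EInt) by simp))))) ∧
      ∀ p q : ℤ, (p < 0 ∨ q < 0) → IsZero ((E.page 2 le_rfl).X (p, q)) := by
  let E := Y.spectralSequence coreE₂Cohomological
  let rk : ℤ × ℤ → ℤ := fun pq => max 2 (max (pq.1 + 2) (pq.2 + 2))
  have hst : ∀ pq, SpSeq.StationaryAt E pq (rk pq) := fun pq => by
    refine ⟨le_max_left _ _, fun r' h₀ hr' => ⟨?_, ?_⟩⟩
    · have : pq.1 + 2 ≤ r' := le_trans (le_trans (le_max_left _ _) (le_max_right _ _)) hr'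
      exact (isZero_page_of_not_mem Y r' h₀ _ (Or.inl (by simp only [Prod.fst_sub]; lia))).eq_of_src _ _
    · have : pq.2 + 2 ≤ r' := le_trans (le_trans (le_max_right _ _) (le_max_right _ _)) hr'
      exact (isZero_page_of_not_mem Y r' h₀ _ (Or.inr (by simp only [Prod.snd_add]; lia))).eq_of_tgt _ _
  have hβ : ∀ pq : ℤ × ℤ, Nonempty ((E.page (rk pq) (hst pq).1).X pq ≅
      SpSeq.grPiece (fil Y H e (pq.1 + pq.2)) (fil_anti Y H e (pq.1 + pq.2)) pq.1) := fun ⟨p, q⟩ => by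
    obtain ⟨i⟩ := nonempty_page_iso Y (rk (p, q)) (hst (p, q)).1 p q
      (le_trans (le_max_right _ _) (le_max_right _ _)) (le_trans (le_max_left _ _) (le_max_right _ _))
    obtain ⟨j⟩ := nonempty_gr_iso Y H e (p + q) p q (by lia)
    exact ⟨i ≪≫ j⟩
  refine ⟨E, { fil := fil Y H e, anti := fil_anti Y H e, rk := rk, stat := hst, β := fun pq => (hβ pq).some },
    fun n => ⟨⟨0, ?_⟩, ⟨n + 1, ?_⟩⟩, fun n => ?_, fun p q => ?_, fun p q h => ?_⟩
  · exact filAt_eq_top Y H e n _ (by simp)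
  · exact filAt_eq_bot Y H e n _ (by simp)
  · refine (Set.finite_Icc 0 n).subset fun p hp => ?_
    by_contra h
    refine hp (isZero_page_of_not_mem Y 2 le_rfl _ ?_)
    simp only [Set.mem_Icc, not_and_or, not_le] at h
    rcases h with h | h
    · exact Or.inl h
    · exact Or.inr (by simp; lia)
  · exact ⟨Y.spectralSequenceFirstPageXIso coreE₂Cohomological (p, q) _ _ rfl rfl (p + q) rfl⟩
  · exact isZero_page_of_not_mem Y 2 le_rfl _ h

end

end Groth.Misc7.GSS
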