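import Groth.Agent.SiteCohomology.CechFamily
import Groth.Agent.SiteCohomology.HK
import Mathlib.CategoryTheory.Sites.Sheaf
import Mathlib.CategoryTheory.Preadditive.Projective.Basic
import Mathlib.Algebra.Homology.DerivedCategory.Ext.EnoughProjectives

/-!
# Čech cohomology of presheaves as `Ext` in presheaves
-/

set_option autoImplicit false
set_option maxHeartbeats 2000000
set_option synthInstance.maxHeartbeats 400000

universe u

open CategoryTheory CategoryTheory.Limits Opposite Simplicial
open Groth.SiteCohomology

namespace Groth.Misc7.GSS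

variable {C D : Type u} [SmallCategory C] [SmallCategory D] [HasFiniteProducts D]
  {Φ : D ⥤ C} {ι : Type u} {Y : ι → D} {U : C} (d : CechData Φ Y U)

/-- The image of a family in the representable presheaf. -/
noncomputable def familyRange : Cᵒᵖ ⥤ Type u :=
  (Subfunctor.range (d.aug.hom.app (op ⦋0⦌))).toFunctor

/-- The free sheaf for the trivial topology on an object is projective. -/
lemma subsingleton_HU_bot (F : Sheaf (⊥ : GrothendieckTopology C) AddCommGrpCat.{u}) (V : C) (q : ℕ) :
    Subsingleton (CohSite.HU F (q + 1) V) := by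
  have : Projective (CohCx.freeSheaf (⊥ : GrothendieckTopology C) V) := ⟨fun {E X} f e he => by
    refine (surjective_sections_iff_lift e).1 ?_ f
    have : Epi ((sheafToPresheaf (⊥ : GrothendieckTopology C) AddCommGrpCat.{u}).map e) :=
      haveI : (sheafToPresheaf (⊥ : GrothendieckTopology C) AddCommGrpCat.{u}).IsEquivalence :=
        (sheafBotEquivalence (C := C) AddCommGrpCat.{u}).isEquivalence_functor
      inferInstance
    exact (AddCommGrpCat.epi_iff_surjective _).1
      (((NatTrans.epi_iff_epi_app _).1 this) (op V))⟩
  exact @Abelian.Ext.subsingleton_of_projective _ _ _ _ (CohCx.freeSheaf (⊥ : GrothendieckTopology C) V) F this q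

/-- The Čech complex of a presheaf computes `Ext` out of the free presheaf on the image. -/
theorem nonempty_cech_bot_equiv (F : Sheaf (⊥ : GrothendieckTopology C) AddCommGrpCat.{u}) (p : ℕ) :
    Nonempty (((cechComplexFunctor Y).obj (Φ.op ⋙ F.obj)).homology p ≃+
      Abelian.Ext ((freeSh (⊥ : GrothendieckTopology C)).obj (familyRange d)) F p) := by
  have hsurj : Presheaf.IsLocallySurjective (⊥ : GrothendieckTopology C)
      ((imageAug d.aug).hom.app (op ⦋0⦌)) := by
    rw [imageAug_hom_zero]
    refine Presheaf.isLocallySurjective_of_surjective _ _ fun c => ?_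
    rintro ⟨b, a, ha⟩
    exact ⟨a, Subtype.ext ha⟩
  have hT : IsCechTypePresheaf (imageAug d.aug) := fun c => by
    have hX := d.isCechTypePresheaf_aug c
    have hY0 : ((evalAug c).obj (imageAug d.aug)).hom.app (op ⦋0⦌) =
        (Subfunctor.toRange (d.aug.hom.app (op ⦋0⦌))).app c := by
      rw [← imageAug_hom_zero]
      exact Category.comp_id _
    have hX0 : ((evalAug c).obj d.aug).hom.app (op ⦋0⦌) = (d.aug.hom.app (op ⦋0⦌)).app c :=
      Category.comp_id _
    exact
      { ext := hX.ext
        lift := fun n t ht => hX.lift n t fun i j => by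
          have h := ht i j
          rw [hY0] at h
          rw [hX0]
          exact congrArg Subtype.val h }
  obtain ⟨e⟩ := nonempty_yonedaCofaceCx_homology_equiv (T := freeSh (⊥ : GrothendieckTopology C))
    (X := imageAug d.aug) F (isAugResolution_freeSh _ _ hT) p (fun n q _ =>
      @subsingleton_ext_freeCoprod _ _ _ _ Φ (⊥ : GrothendieckTopology C) F
        ((FormalCoproduct.mk _ Y).cech _⦋n⦌) (q + 1) fun a => subsingleton_HU_bot F _ q)
  exact ⟨((HomologicalComplex.homologyFunctor _ _ p).mapIso
    (d.cxIso (⊥ : GrothendieckTopology C) F)).symm.addCommGroupIsoToAddEquiv.trans e⟩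

/-- For a covering family the free sheaf on the image is the free sheaf on the object. -/
lemma isIso_freeSh_map_familyRange (J : GrothendieckTopology C)
    (hY : Sieve.ofArrows (fun i => Φ.obj (Y i)) d.p ∈ J U) :
    IsIso ((freeSh J).map (Subfunctor.range (d.aug.hom.app (op ⦋0⦌))).ι) := by
  refine isIso_freeSh_map_of_W J _ ?_
  have := d.isLocallySurjective_aug J hY
  have := Presheaf.isLocallySurjective_of_isLocallySurjective_fac J
    (Subfunctor.toRange_ι (d.aug.hom.app (op ⦋0⦌)))
  have : Presheaf.IsLocallyInjective J (Subfunctor.range (d.aug.hom.app (op ⦋0⦌))).ι :=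
    Presheaf.isLocallyInjective_of_injective J _ fun _ => Subtype.val_injective
  exact J.W_of_isLocallyBijective _

end Groth.Misc7.GSS
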