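import Groth.Agent.CohFin.Acyclic
import Mathlib.Algebra.Homology.HomologySequence
import Mathlib.Algebra.Homology.HomologicalComplexAbelian
import Mathlib.Algebra.Homology.HomologicalComplexBiprod
import Mathlib.Algebra.Homology.ShortComplex.HomologicalComplex
import Mathlib.Algebra.Homology.ShortComplex.ExactFunctor
import Mathlib.CategoryTheory.Abelian.RightDerived

/-!
# The derived functors of `H⁰` on cochain complexes in degrees `≥ 0` are the `Hᵖ`
-/

set_option autoImplicit false
set_option maxHeartbeats 1000000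
set_option synthInstance.maxHeartbeats 400000

universe v u

open CategoryTheory CategoryTheory.Limits

namespace Groth.Misc7.GSS.CochainH0

variable {D : Type u} [Category.{v} D] [Abelian D]

/-- `H⁰`. -/
noncomputable abbrev H0 : CochainComplex D ℕ ⥤ D := HomologicalComplex.homologyFunctor D (ComplexShape.up ℕ) 0

variable (A : CochainComplex D ℕ)

/-- A complex with `Hᵖ = 0` for `p > 0` containing `A`. -/
noncomputable abbrev hull : CochainComplex D ℕ :=
  CochainComplex.of (fun n => A.X n ⊞ A.X (n + 1))
    (fun n => biprod.lift biprod.snd 0)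
    (fun n => by ext <;> simp)

lemma hull_d (n : ℕ) : (hull A).d n (n + 1) = biprod.lift biprod.snd 0 := by
  simp [hull, CochainComplex.of_d]

/-- The inclusion in the hull. -/
noncomputable def toHull : A ⟶ hull A :=
  CochainComplex.ofHom (fun n => biprod.lift (𝟙 _) (A.d n (n + 1))) fun n => by
    rw [hull_d]
    apply biprod.hom_ext <;> simp

instance mono_toHull : Mono (toHull A) := by
  have : ∀ n, Mono ((toHull A).f n) := fun n =>
    have h : (toHull A).f n ≫ (biprod.fst : A.X n ⊞ A.X (n + 1) ⟶ A.X n) = 𝟙 _ := by simp [toHull]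
    mono_of_mono_fac h
  exact HomologicalComplex.mono_of_mono_f _ this

lemma isZero_homology_hull (p : ℕ) : IsZero ((hull A).homology (p + 1)) := by
  rw [← HomologicalComplex.exactAt_iff_isZero_homology,
    HomologicalComplex.exactAt_iff' _ p (p + 1) (p + 2) (by simp) (by simp),
    ShortComplex.exact_iff_exact_up_to_refinements]
  intro T (x : T ⟶ A.X (p + 1) ⊞ A.X (p + 1 + 1)) (hx : x ≫ (hull A).d (p + 1) (p + 1 + 1) = 0)
  refine ⟨T, 𝟙 _, inferInstance, biprod.lift 0 (x ≫ biprod.fst), ?_⟩
  have h : x ≫ biprod.snd = 0 := by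
    have := hx =≫ biprod.fst
    rw [hull_d, Category.assoc] at this
    simpa using this
  show 𝟙 T ≫ x = biprod.lift 0 (x ≫ biprod.fst) ≫ (hull A).d p (p + 1)
  rw [Category.id_comp, hull_d]
  apply biprod.hom_ext
  · simp
  · simp [h]

lemma isZero_homology_of_injective [Injective A] (p : ℕ) : IsZero (A.homology (p + 1)) := by
  let r := Injective.factorThru (𝟙 A) (toHull A)
  have h : HomologicalComplex.homologyMap (toHull A) (p + 1) ≫ HomologicalComplex.homologyMap r (p + 1) = 𝟙 _ := by
    rw [← HomologicalComplex.homologyMap_comp, Injective.comp_factorThru, HomologicalComplex.homologyMap_id]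
  rw [IsZero.iff_id_eq_zero, ← h, (isZero_homology_hull A p).eq_of_tgt (HomologicalComplex.homologyMap (toHull A) (p + 1)) 0,
    zero_comp]

instance preservesFiniteLimits_H0 : PreservesFiniteLimits (H0 (D := D)) := by
  refine ((Functor.preservesFiniteLimits_tfae (H0 (D := D))).out 3 0 :).2 ?_
  intro S hS
  refine ⟨hS.homology_exact₂ 0, ?_⟩
  have := hS.mono_f
  show Mono (HomologicalComplex.homologyMap S.f 0)
  have e := CochainComplex.isoHomologyπ₀_inv_naturality S.f
  have : Mono (HomologicalComplex.cyclesMap S.f 0) := by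
    have : Mono (HomologicalComplex.cyclesMap S.f 0 ≫ S.X₂.iCycles 0) := by
      rw [HomologicalComplex.cyclesMap_i]
      infer_instance
    exact mono_of_mono _ (S.X₂.iCycles 0)
  have : Mono (HomologicalComplex.homologyMap S.f 0 ≫ S.X₂.isoHomologyπ₀.inv) := by
    rw [e]
    infer_instance
  exact mono_of_mono _ S.X₂.isoHomologyπ₀.inv

variable [EnoughInjectives (CochainComplex D ℕ)]

/-- `R^p H⁰ = Hᵖ`. -/
theorem nonempty_rightDerived_H0_iso : ∀ (p : ℕ) (A : CochainComplex D ℕ),
    Nonempty (((H0 (D := D)).rightDerived p).obj A ≅ A.homology p)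
  | 0, A => ⟨(H0 (D := D)).rightDerivedZeroIsoSelf.app A⟩
  | p + 1, A => by
      let S := ShortComplex.mk (Injective.ι A) (cokernel.π (Injective.ι A)) (cokernel.condition _)
      have hS : S.ShortExact := { exact := ShortComplex.exact_cokernel _ }
      have hI : ∀ q, IsZero (S.X₂.homology (q + 1)) := isZero_homology_of_injective _
      have hac : Groth.CohFin.RightAcyclic (H0 (D := D)) S.X₂ :=
        Groth.CohFin.rightAcyclic_of_injective _ _
      match p with
      | 0 =>
        obtain ⟨e⟩ := Groth.CohFin.nonempty_rightDerived_one_iso hS hac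
        have hepi : Epi (hS.δ 0 1 rfl) := (hS.homology_exact₁ 0 1 rfl).epi_f ((hI 0).eq_of_tgt _ _)
        exact ⟨e ≪≫ (cokernelIsCokernel _).coconePointUniqueUpToIso
          (hS.homology_exact₃ 0 1 rfl).gIsCokernel⟩
      | p + 1 =>
        obtain ⟨e⟩ := Groth.CohFin.nonempty_rightDerived_shift (F := H0 (D := D)) p S hS hac
        obtain ⟨i⟩ := nonempty_rightDerived_H0_iso (p + 1) S.X₃
        exact ⟨e ≪≫ i ≪≫ hS.δIso (p + 1) (p + 2) rfl (hI p) (hI (p + 1))⟩

end Groth.Misc7.GSS.CochainH0
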