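import Groth.Agent.Misc7.GSS.RplusHomology
import Groth.Agent.Misc7.GSS.Homological
import Groth.Agent.Misc7.GSS.Abutment
import Groth.Agent.Misc7.GSS.Acyclic
import Mathlib.CategoryTheory.Triangulated.TStructure.SpectralObject

/-!
# The Grothendieck spectral sequence of a complex of acyclic objects
-/

set_option autoImplicit false
set_option maxHeartbeats 2000000
set_option synthInstance.maxHeartbeats 400000

universe v u v' u' v₀ u₀

open CategoryTheory CategoryTheory.Limits CategoryTheory.Pretriangulated CategoryTheory.ComposableArrows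

attribute [local instance] HasDerivedCategory.standard

namespace Groth.Misc7.GSS

variable {C : Type u} [Category.{v} C] [Abelian C]

local notation "tP" => DerivedCategory.Plus.TStructure.t
local notation "DP" => DerivedCategory.Plus

/-- An object of `D^+` concentrated in a single degree. -/
lemma nonempty_iso_single (Z : DerivedCategory.Plus C) (q : ℤ) [Z.IsGE q] [Z.IsLE q] :
    Nonempty (Z ≅ (DerivedCategory.Plus.singleFunctor C q).obj
      ((DerivedCategory.Plus.homologyFunctor C q).obj Z)) := by
  obtain ⟨M, ⟨e⟩⟩ := DerivedCategory.exists_iso_singleFunctor_obj_of_isGE_of_isLE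
    (DerivedCategory.Plus.ι.obj Z) q
  exact ⟨DerivedCategory.Plus.ι.preimageIso (e ≪≫ (DerivedCategory.singleFunctor C q).mapIso
    ((DerivedCategory.homologyFunctor C q).mapIso e ≪≫
      (DerivedCategory.singleFunctorCompHomologyFunctorIso C q).app M).symm)⟩

lemma isIso_homology_truncLTι (X : DerivedCategory.Plus C) (a q : ℤ) (h : q < a) :
    IsIso ((DerivedCategory.Plus.homologyFunctor C q).map
      (((DerivedCategory.Plus.TStructure.t (C := C)).truncLTι a).app X)) := by
  let t := (DerivedCategory.Plus.TStructure.t (C := C))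
  let F := DerivedCategory.Plus.homologyFunctor C 0
  have hT := t.triangleLTGE_distinguished a X
  haveI : DerivedCategory.Plus.IsGE ((t.truncGE a).obj X) a := t.isGE_truncGE_obj X a a
  have z : ∀ i, i < a → IsZero ((DerivedCategory.Plus.homologyFunctor C i).obj ((t.truncGE a).obj X)) :=
    fun i hi => DerivedCategory.Plus.isZero_homology_of_isGE _ a i hi
  have hm : Mono ((F.shift q).map ((t.triangleLTGE a).obj X).mor₁) :=
    (F.homologySequence_exact₁ _ hT (q - 1) q (by omega)).mono_g ((z (q - 1) (by omega)).eq_of_src _ _)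
  have he : Epi ((F.shift q).map ((t.triangleLTGE a).obj X).mor₁) :=
    (F.homologySequence_exact₂ _ hT q).epi_f ((z q h).eq_of_tgt _ _)
  exact @isIso_of_mono_of_epi _ _ _ _ _ _ hm he

lemma isIso_homology_truncGEπ (X : DerivedCategory.Plus C) (a q : ℤ) (h : a ≤ q) :
    IsIso ((DerivedCategory.Plus.homologyFunctor C q).map
      (((DerivedCategory.Plus.TStructure.t (C := C)).truncGEπ a).app X)) := by
  let t := (DerivedCategory.Plus.TStructure.t (C := C))
  let F := DerivedCategory.Plus.homologyFunctor C 0
  have hT := t.triangleLTGE_distinguished a X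
  haveI : DerivedCategory.Plus.IsLE ((t.truncLT a).obj X) (a - 1) := t.isLE_truncLT_obj X a (a - 1)
  have z : ∀ i, a - 1 < i → IsZero ((DerivedCategory.Plus.homologyFunctor C i).obj ((t.truncLT a).obj X)) :=
    fun i hi => DerivedCategory.Plus.isZero_homology_of_isLE _ (a - 1) i hi
  have hm : Mono ((F.shift q).map ((t.triangleLTGE a).obj X).mor₂) :=
    (F.homologySequence_exact₂ _ hT q).mono_g ((z q (by omega)).eq_of_src _ _)
  have he : Epi ((F.shift q).map ((t.triangleLTGE a).obj X).mor₂) :=
    (F.homologySequence_exact₃ _ hT q (q + 1) rfl).epi_f ((z (q + 1) (by omega)).eq_of_tgt _ _)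
  exact @isIso_of_mono_of_epi _ _ _ _ _ _ hm he

variable [EnoughInjectives C] {D : Type u'} [Category.{v'} D] [Abelian D] (F : C ⥤ D) [F.Additive]

/-- The Grothendieck spectral object of an object of `D^+`. -/
noncomputable def spObj (X : DerivedCategory.Plus C) : CategoryTheory.Abelian.SpectralObject D EInt :=
  mapHomological (((DerivedCategory.Plus.TStructure.t (C := C)).spectralObject X).mapTriangulatedFunctor (RK F))
    (HomotopyCategory.homologyFunctor D (ComplexShape.up ℤ) 0)

lemma isFirstQuadrant_spObj (X : DerivedCategory.Plus C) [X.IsGE 0] : (spObj F X).IsFirstQuadrant where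
  isZero₁ i j hij hj n := by
    let t := (DerivedCategory.Plus.TStructure.t (C := C))
    suffices IsZero ((t.eTruncGE.obj i).obj ((t.eTruncLT.obj j).obj X)) from
      (HomotopyCategory.homologyFunctor D (ComplexShape.up ℤ) n).map_isZero ((RK F).map_isZero this)
    refine Functor.map_isZero _ ?_
    induction j using WithBotTop.rec with
    | bot => exact Functor.zero_obj _
    | coe a =>
      have : a ≤ 0 := by simpa using hj
      haveI : t.IsGE X a := t.isGE_of_ge X a 0 this
      exact t.isZero_truncLT_obj_of_isGE a X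
    | top => simp at hj
  isZero₂ i j hij n hi := by
    let t := (DerivedCategory.Plus.TStructure.t (C := C))
    show IsZero ((RH F n).obj ((t.eTruncGE.obj i).obj ((t.eTruncLT.obj j).obj X)))
    induction i using WithBotTop.rec with
    | bot => simp at hi
    | coe a =>
      have hn : n < a := by simpa using hi
      haveI hge : DerivedCategory.Plus.IsGE ((t.truncGE a).obj ((t.eTruncLT.obj j).obj X)) a :=
        t.isGE_truncGE_obj _ a a
      exact @isZero_RH _ _ _ _ _ _ _ F _ _ a n hge hn
    | top =>
      exact (RH F n).map_isZero (Functor.zero_obj _)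

/-- The first page of the Grothendieck spectral object. -/
lemma nonempty_spObj_H_iso (X : DerivedCategory.Plus C) (n q : ℤ) (k : ℕ) (h : n = q + k) :
    Nonempty (((spObj F X).H n).obj (mk₁ (homOfLE (show (q : EInt) ≤ ((q + 1 : ℤ) : EInt) by simp))) ≅
      (F.rightDerived k).obj ((DerivedCategory.Plus.homologyFunctor C q).obj X)) := by
  let t := (DerivedCategory.Plus.TStructure.t (C := C))
  let Z := (t.truncGE q).obj ((t.truncLT (q + 1)).obj X)
  haveI : DerivedCategory.Plus.IsGE Z q := t.isGE_truncGE_obj _ q q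
  haveI h1 : t.IsLE ((t.truncLT (q + 1)).obj X) q := t.isLE_truncLT_obj X (q + 1) q
  haveI : DerivedCategory.Plus.IsLE Z q := by
    exact inferInstanceAs (t.IsLE ((t.truncGE q).obj ((t.truncLT (q + 1)).obj X)) q)
  obtain ⟨i⟩ := nonempty_iso_single Z q
  obtain ⟨j⟩ := nonempty_RH_single F ((DerivedCategory.Plus.homologyFunctor C q).obj Z) q n k h
  haveI := isIso_homology_truncLTι X (q + 1) q (by omega)
  haveI := isIso_homology_truncGEπ ((t.truncLT (q + 1)).obj X) q q le_rfl
  exact ⟨(RH F n).mapIso i ≪≫ j ≪≫ (F.rightDerived k).mapIso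
    ((asIso ((DerivedCategory.Plus.homologyFunctor C q).map ((t.truncGEπ q).app _))).symm ≪≫
      asIso ((DerivedCategory.Plus.homologyFunctor C q).map ((t.truncLTι (q + 1)).app X)))⟩

variable [PreservesFiniteLimits F]

/-- For a bounded below complex of acyclic objects the derived functor is computed termwise. -/
lemma nonempty_RH_Q (K : CochainComplex.Plus C) [K.obj.IsStrictlyGE 0]
    (hK : ∀ n, Groth.CohFin.RightAcyclic F (K.obj.X n)) (n : ℤ) :
    Nonempty ((RH F n).obj (DerivedCategory.Plus.Q.obj K) ≅
      ((F.mapHomologicalComplex (ComplexShape.up ℤ)).obj K.obj).homology n) := by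
  obtain ⟨L, hL, i, hi⟩ := CochainComplex.Plus.exists_quasiIso_injective K 0
  haveI : QuasiIso i.hom := hi
  haveI : IsIso (DerivedCategory.Plus.Q.map i) :=
    Localization.inverts DerivedCategory.Plus.Qh (HomotopyCategory.Plus.quasiIso C) _
      ((HomotopyCategory.quotient_map_mem_quasiIso_iff i.hom).2 hi)
  obtain ⟨e⟩ := nonempty_RH_iso F _ L (asIso (DerivedCategory.Plus.Q.map i)).symm n
  haveI : CochainComplex.IsStrictlyGE ((InjectiveObject.ι C).mapCochainComplexPlus.obj L).obj 0 := by
    exact inferInstanceAs (CochainComplex.IsStrictlyGE (((InjectiveObject.ι C).mapHomologicalComplex (.up ℤ)).obj L.obj) 0)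
  haveI : QuasiIso ((F.mapHomologicalComplex (ComplexShape.up ℤ)).map i.hom) :=
    quasiIso_mapHomologicalComplex F 0 hK (fun m => by
      haveI : Injective (((InjectiveObject.ι C).mapCochainComplexPlus.obj L).obj.X m) := (L.obj.X m).2
      exact Groth.CohFin.rightAcyclic_of_injective F _) i.hom
  exact ⟨e ≪≫ (asIso (HomologicalComplex.homologyMap
    ((F.mapHomologicalComplex (ComplexShape.up ℤ)).map i.hom) n)).symm⟩

/-- The Grothendieck spectral sequence of a complex of acyclic objects. -/
theorem exists_grothendieck (K : CochainComplex.Plus C) [K.obj.IsStrictlyGE 0]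
    (hK : ∀ n, Groth.CohFin.RightAcyclic F (K.obj.X n))
    (H : ℤ → D) (eH : ∀ n, Nonempty (((F.mapHomologicalComplex (ComplexShape.up ℤ)).obj K.obj).homology n ≅ H n)) :
    ∃ (E : E₂CohomologicalSpectralSequence D) (a : SpSeq.Abutment E H),
      (∀ n, a.IsFinite n) ∧ SpSeq.IsBounded E ∧
      (∀ p q : ℕ, Nonempty ((E.page 2 le_rfl).X ((p : ℤ), (q : ℤ)) ≅
        (F.rightDerived p).obj (K.obj.homology (q : ℤ)))) ∧
      ∀ p q : ℤ, (p < 0 ∨ q < 0) → IsZero ((E.page 2 le_rfl).X (p, q)) := by
  let X := DerivedCategory.Plus.Q.obj K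
  haveI : X.IsGE 0 := by
    rw [← DerivedCategory.Plus.isGE_ι_obj_iff]
    haveI : (DerivedCategory.Q.obj K.obj).IsGE 0 := inferInstance
    exact DerivedCategory.TStructure.t.isGE_of_iso ((DerivedCategory.quotientCompQhIso C).symm.app K.obj) 0
  haveI := isFirstQuadrant_spObj F X
  let e : ∀ n, ((spObj F X).H n).obj (mk₁ (homOfLE (bot_le : (⊥ : EInt) ≤ ⊤))) ≅ H n := fun n =>
    (nonempty_RH_Q F K hK n).some ≪≫ (eH n).some
  obtain ⟨E, a, h1, h2, h3, h4⟩ := exists_spectralSequence (spObj F X) H e
  refine ⟨E, a, h1, h2, fun p q => ?_, h4⟩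
  obtain ⟨i⟩ := h3 p q
  obtain ⟨j⟩ := nonempty_spObj_H_iso F X ((p : ℤ) + q) q p (by omega)
  exact ⟨i ≪≫ j ≪≫ (F.rightDerived p).mapIso ((DerivedCategory.homologyFunctor C (q : ℤ)).mapIso
    ((DerivedCategory.quotientCompQhIso C).app K.obj) ≪≫
      (DerivedCategory.homologyFunctorFactors C (q : ℤ)).app K.obj)⟩

end Groth.Misc7.GSS
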