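import Groth.Agent.Misc7.GSS.Composite
import Groth.Agent.Misc7.GSS.CochainH0
import Groth.Agent.HTopHyper.Hyper.CechAcyclic
import Groth.Agent.SiteCohomology.HigherDirectImage
import Groth.Agent.SiteCohomology.ModulesGrothendieck
import Groth.Agent.LocCohZBase.ExtDerived
import Groth.Agent.Misc7.GSS.LocalToGlobal
import Mathlib.Algebra.Homology.GrothendieckAbelian
import Mathlib.CategoryTheory.Abelian.GrothendieckCategory.EnoughInjectives

/-!
# The Čech spectral sequence of a hypercovering of a site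
-/

set_option autoImplicit false
set_option backward.isDefEq.respectTransparency false
set_option maxHeartbeats 2000000
set_option synthInstance.maxHeartbeats 400000

universe u

open CategoryTheory CategoryTheory.Limits Opposite Simplicial AlgebraicTopology
open Groth.SiteCohomology Groth.HyperLib

namespace Groth.Misc7.GSS.HyperCech

variable {C : Type u} [SmallCategory C] (J : GrothendieckTopology C)
  (K : SimplicialObject (FormalCoproduct.{u} C))

/-- The Čech complex as a functor on presheaves. -/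
noncomputable abbrev cxPre : (Cᵒᵖ ⥤ AddCommGrpCat.{u}) ⥤ CochainComplex AddCommGrpCat.{u} ℕ :=
  FormalCoproduct.cochainComplexFunctor K

/-- The Čech complex as a functor on sheaves. -/
noncomputable abbrev cxSh : Sheaf J AddCommGrpCat.{u} ⥤ CochainComplex AddCommGrpCat.{u} ℕ :=
  sheafToPresheaf J AddCommGrpCat.{u} ⋙ cxPre K

lemma cxPre_map_π {P Q : Cᵒᵖ ⥤ AddCommGrpCat.{u}} (φ : P ⟶ Q) (n : ℕ) (a : (K _⦋n⦌).I) :
    ((cxPre K).map φ).f n ≫ Pi.π (fun a : (K _⦋n⦌).I => Q.obj (op ((K _⦋n⦌).obj a))) a =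
      Pi.π (fun a : (K _⦋n⦌).I => P.obj (op ((K _⦋n⦌).obj a))) a ≫ φ.app (op ((K _⦋n⦌).obj a)) :=
  limMap_π (Discrete.natTrans _) ⟨a⟩

theorem shortExact_map_cxPre (S : ShortComplex (Cᵒᵖ ⥤ AddCommGrpCat.{u})) (hS : S.ShortExact)
    [(cxPre K).PreservesZeroMorphisms] :
    (S.map (cxPre K)).ShortExact := by
  refine HomologicalComplex.shortExact_of_degreewise_shortExact _ fun n => ?_
  have := hS.mono_f
  have := hS.epi_g
  have hc : ∀ X : Cᵒᵖ, (S.map ((evaluation _ _).obj X)).ShortExact := fun X =>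
    hS.map_of_exact _
  have hf : ∀ X, Function.Injective (S.f.app X) := fun X =>
    (AddCommGrpCat.mono_iff_injective _).1 (hc X).mono_f
  have hg : ∀ X, Function.Surjective (S.g.app X) := fun X =>
    (AddCommGrpCat.epi_iff_surjective _).1 (hc X).epi_g
  let ob : (K _⦋n⦌).I → Cᵒᵖ := fun a => op ((K _⦋n⦌).obj a)
  let eq : ∀ P : Cᵒᵖ ⥤ AddCommGrpCat.{u}, ((((cxPre K).obj P).X n)) ≃ ∀ a, P.obj (ob a) := fun P =>
    Concrete.productEquiv fun a => P.obj (ob a)
  have key : ∀ {P Q : Cᵒᵖ ⥤ AddCommGrpCat.{u}} (φ : P ⟶ Q) x a,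
      eq Q (((cxPre K).map φ).f n x) a = φ.app (ob a) (eq P x a) := by
    intro P Q φ x a
    refine (Concrete.productEquiv_apply_apply _ _ _).trans ?_
    refine Eq.trans ?_ (congrArg (φ.app (ob a)) (Concrete.productEquiv_apply_apply _ x a)).symm
    exact ConcreteCategory.congr_hom (cxPre_map_π K φ n a) x
  refine ShortComplex.ShortExact.mk' ((ShortComplex.ab_exact_iff _).2 fun x hx => ?_)
    ((AddCommGrpCat.mono_iff_injective _).2 fun x y h => (eq S.X₁).injective (funext fun a => hf _ ?_))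
    ((AddCommGrpCat.epi_iff_surjective _).2 fun z => ?_)
  · have hz : ∀ a, ∃ w, S.f.app (ob a) w = eq S.X₂ x a := fun a => by
      refine (ShortComplex.ab_exact_iff _).1 (hc (ob a)).exact _ ?_
      refine (key S.g x a).symm.trans ?_
      rw [show ((cxPre K).map S.g).f n x = 0 from hx]
      exact (Concrete.productEquiv_apply_apply _ _ _).trans (map_zero _)
    choose w hw using hz
    refine ⟨(eq S.X₁).symm w, (eq S.X₂).injective (funext fun a => ?_)⟩
    exact ((key S.f _ a).trans (by rw [Equiv.apply_symm_apply])).trans (hw a)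
  · rw [← key S.f x a, ← key S.f y a]
    exact congrArg (fun k => eq S.X₂ k a) h
  · choose w hw using fun a => hg (ob a) (eq S.X₃ z a)
    refine ⟨(eq S.X₂).symm w, (eq S.X₃).injective (funext fun a => ?_)⟩
    exact ((key S.g _ a).trans (by rw [Equiv.apply_symm_apply])).trans (hw a)

instance additive_cxPre : (cxPre (C := C) K).Additive where
  map_add {P Q φ ψ} := by
    apply HomologicalComplex.hom_ext
    intro n
    refine Pi.hom_ext _ _ fun a => ?_
    exact (cxPre_map_π K (φ + ψ) n a).trans ((Preadditive.comp_add _ _ _ _ _ _).trans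
      ((congrArg₂ (· + ·) (cxPre_map_π K φ n a).symm (cxPre_map_π K ψ n a).symm).trans
        (Preadditive.add_comp _ _ _ _ _ _).symm))

instance preservesFiniteLimits_cxPre : PreservesFiniteLimits (cxPre (C := C) K) :=
  ((Functor.exact_tfae (cxPre (C := C) K)).out 0 3 :).1 (fun S hS => shortExact_map_cxPre K S hS) |>.1

instance preservesFiniteColimits_cxPre : PreservesFiniteColimits (cxPre (C := C) K) :=
  ((Functor.exact_tfae (cxPre (C := C) K)).out 0 3 :).1 (fun S hS => shortExact_map_cxPre K S hS) |>.2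

instance additive_cxSh : (cxSh J K).Additive := inferInstance

/-- Precomposition with the augmentation. -/
noncomputable abbrev augMap :
    (freeCoprod (𝟭 C) J).obj (K _⦋0⦌) ⟶ (freeSh J).obj (ptPresheaf (C := C)) :=
  (freeSh J).map ((augOf (toPt (K ⋙ coprodPresheaf (𝟭 C)))).hom.app (op ⦋0⦌))

/-- The comparison of Čech complexes. -/
noncomputable def cxIso (M : Sheaf J AddCommGrpCat.{u}) :
    yonedaCofaceCx (freeSh J) (augOf (toPt (K ⋙ coprodPresheaf (𝟭 C)))) M ≅ (cxSh J K).obj M :=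
  (alternatingCofaceMapComplex AddCommGrpCat.{u}).mapIso
    (Functor.isoWhiskerLeft K.rightOp (asIso (homCoprodToEval (𝟭 C) J M)))

/-- The augmentation of the Čech complex. -/
noncomputable def aug₀ (M : Sheaf J AddCommGrpCat.{u}) :
    (preadditiveCoyoneda.obj (op ((freeSh J).obj (ptPresheaf (C := C))))).obj M ⟶ ((cxSh J K).obj M).X 0 :=
  AddCommGrpCat.ofHom (AddMonoidHom.mk'
    (fun φ : (freeSh J).obj (ptPresheaf (C := C)) ⟶ M => augMap J K ≫ φ)
    fun _ _ => Preadditive.comp_add _ _ _ _ _ _) ≫ (cxIso J K M).hom.f 0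

variable [∀ (n : ℕ) (F : (SimplexCategory.Truncated n)ᵒᵖ ⥤ FormalCoproduct.{u} C),
  (SimplexCategory.Truncated.inclusion n).op.HasRightKanExtension F]

omit [∀ (n : ℕ) (F : (SimplexCategory.Truncated n)ᵒᵖ ⥤ FormalCoproduct.{u} C),
  (SimplexCategory.Truncated.inclusion n).op.HasRightKanExtension F] in
lemma aug₀_d (M : Sheaf J AddCommGrpCat.{u}) : aug₀ J K M ≫ ((cxSh J K).obj M).d 0 1 = 0 := by
  rw [aug₀, Category.assoc, (cxIso J K M).hom.comm 0 1, ← Category.assoc]
  refine (congrArg (· ≫ (cxIso J K M).hom.f 1) ?_).trans zero_comp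
  ext φ
  refine (yonedaCofaceCx_d (freeSh J) (augOf (toPt (K ⋙ coprodPresheaf (𝟭 C)))) M 0 (augMap J K ≫ φ)).trans ?_
  have h := objD_comp_ε (((SimplicialObject.Augmented.whiskering _ _).obj (freeSh J)).obj
    (augOf (toPt (K ⋙ coprodPresheaf (𝟭 C)))))
  refine (Category.assoc _ _ _).symm.trans ?_
  refine (congrArg (· ≫ φ) ?_).trans zero_comp
  exact (congrArg (AlternatingFaceMapComplex.objD (((SimplicialObject.whiskering _ _).obj (freeSh J)).obj
    (K ⋙ coprodPresheaf (𝟭 C))) 0 ≫ ·) (Category.comp_id _).symm).trans h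

/-- The augmentation as a natural map to `H⁰`. -/
noncomputable def toH0 :
    preadditiveCoyoneda.obj (op ((freeSh J).obj (ptPresheaf (C := C)))) ⟶ cxSh J K ⋙ CochainH0.H0 where
  app M := ((cxSh J K).obj M).liftCycles (aug₀ J K M) 1 (by simp) (aug₀_d J K M) ≫
    ((cxSh J K).obj M).homologyπ 0
  naturality M N g := by
    show _ ≫ _ ≫ _ = (_ ≫ _) ≫ HomologicalComplex.homologyMap ((cxSh J K).map g) 0
    rw [← Category.assoc, HomologicalComplex.comp_liftCycles, Category.assoc,
      HomologicalComplex.homologyπ_naturality, ← Category.assoc, HomologicalComplex.liftCycles_comp_cyclesMap]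
    congr 2
    refine Pi.hom_ext _ _ fun a => ?_
    ext φ
    refine Eq.trans ?_ (ConcreteCategory.congr_hom (cxPre_map_π K g.hom 0 a) (aug₀ J K M φ)).symm
    have e : ∀ (L : Sheaf J AddCommGrpCat.{u}) (ψ : (freeSh J).obj (ptPresheaf (C := C)) ⟶ L),
        (aug₀ J K L ≫ Pi.π (fun a : (K _⦋0⦌).I => L.obj.obj (op ((K _⦋0⦌).obj a))) a) ψ =
          evCoprod (𝟭 C) J L (K _⦋0⦌) a (augMap J K ≫ ψ) := fun L ψ => by
      let x : (AddCommGrpCat.of ((freeCoprod (𝟭 C) J).obj (K _⦋0⦌) ⟶ L) : AddCommGrpCat.{u}) :=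
        augMap J K ≫ ψ
      exact ConcreteCategory.congr_hom
        (Pi.lift_π (fun i => AddCommGrpCat.ofHom (evCoprod (𝟭 C) J L (K _⦋0⦌) i)) a) x
    refine (e N (φ ≫ g)).trans (Eq.trans ?_ (congrArg (g.hom.app _) (e M φ)).symm)
    rfl

lemma isIso_toH0_app (hK : Hyper.IsHypercoveringSite J K) (M : Sheaf J AddCommGrpCat.{u}) :
    IsIso ((toH0 J K).app M) := by
  have hres := isAugResolution_of_isTrivFib (isTrivFib_coprod_site K hK)
  have hε : (((SimplicialObject.Augmented.whiskering _ _).obj (freeSh J)).obj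
      (augOf (toPt (K ⋙ coprodPresheaf (𝟭 C))))).hom.app (op ⦋0⦌) = augMap J K := Category.comp_id _
  have hepi : Epi (augMap J K) := hε ▸ hres.epi
  have hi : Function.Bijective ((cxIso J K M).hom.f 0) :=
    ConcreteCategory.bijective_of_isIso _
  have hmono : Mono (aug₀ J K M) := by
    rw [AddCommGrpCat.mono_iff_injective]
    intro φ ψ h
    exact (cancel_epi (augMap J K)).1 (hi.1 h)
  have hex : (ShortComplex.mk _ _ (aug₀_d J K M)).Exact := by
    rw [ShortComplex.ab_exact_iff]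
    intro x hx
    obtain ⟨y, rfl⟩ := hi.2 x
    have hy : (yonedaCofaceCx (freeSh J) (augOf (toPt (K ⋙ coprodPresheaf (𝟭 C)))) M).d 0 1 y = 0 := by
      refine (ConcreteCategory.bijective_of_isIso ((cxIso J K M).hom.f 1)).1 ?_
      rw [map_zero]
      exact (ConcreteCategory.congr_hom ((cxIso J K M).hom.comm 0 1) y).symm.trans hx
    have hy' := (yonedaCofaceCx_d (freeSh J) (augOf (toPt (K ⋙ coprodPresheaf (𝟭 C)))) M 0 y).symm.trans hy
    haveI : Epi ((ShortComplex.mk _ _ hres.zero₀).g) := hres.epi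
    obtain ⟨φ, hφ⟩ := CokernelCofork.IsColimit.desc' hres.exact₀.gIsCokernel _ hy'
    refine ⟨φ, congrArg ((cxIso J K M).hom.f 0) ?_⟩
    exact (congrArg (· ≫ φ) hε.symm).trans hφ
  let e := hex.fIsKernel.conePointUniqueUpToIso (((cxSh J K).obj M).cyclesIsKernel 0 1 (by simp))
  have he : ((cxSh J K).obj M).liftCycles (aug₀ J K M) 1 (by simp) (aug₀_d J K M) = e.hom := by
    rw [← cancel_mono (((cxSh J K).obj M).iCycles 0), HomologicalComplex.liftCycles_i]
    exact (IsLimit.conePointUniqueUpToIso_hom_comp hex.fIsKernel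
      (((cxSh J K).obj M).cyclesIsKernel 0 1 (by simp)) WalkingParallelPair.zero).symm
  show IsIso (_ ≫ _)
  rw [he]
  have : IsIso (((cxSh J K).obj M).homologyπ 0) := inferInstance
  infer_instance

/-- `H⁰` of the Čech complex of a sheaf. -/
noncomputable def toH0Iso (hK : Hyper.IsHypercoveringSite J K) :
    preadditiveCoyoneda.obj (op ((freeSh J).obj (ptPresheaf (C := C)))) ≅ cxSh J K ⋙ CochainH0.H0 :=
  haveI := fun M => isIso_toH0_app J K hK M
  haveI : IsIso (toH0 J K) := NatIso.isIso_of_isIso_app _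
  asIso (toH0 J K)

/-- The Čech spectral sequence of a hypercovering. -/
theorem exists_hyperCechSS (hK : Hyper.IsHypercoveringSite J K) (F : Sheaf J AddCommGrpCat.{u})
    (H : ℤ → AddCommGrpCat.{u})
    (hH : ∀ n : ℕ, Nonempty (AddCommGrpCat.of (Sheaf.H F n) ≅ H n))
    (hH' : ∀ n : ℤ, n < 0 → IsZero (H n))
    (P : ℤ → ℤ → AddCommGrpCat.{u})
    (hP : ∀ p q : ℕ, Nonempty ((Hyper.cechCxSite K (F.cohomologyPresheaf q)).homology p ≅ P p q))
    (hP' : ∀ p q : ℤ, ¬ (0 ≤ p ∧ 0 ≤ q) → IsZero (P p q)) :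
    ∃ (E : E₂CohomologicalSpectralSequence AddCommGrpCat.{u}) (a : SpSeq.Abutment E H),
      (∀ n, a.IsFinite n) ∧ SpSeq.IsBounded E ∧
      ∀ p q : ℤ, Nonempty ((E.page 2 le_rfl).X (p, q) ≅ P p q) := by
  let G := (freeSh J).obj (ptPresheaf (C := C))
  haveI : HasInjectiveResolutions (CochainComplex AddCommGrpCat.{u} ℕ) := inferInstance
  refine exists_composite (cxSh J K) CochainH0.H0 (fun Q hQ q => ?_) F H (fun n => ?_) hH' P
    (fun p q => ?_) hP'
  · haveI : Injective Q := hQ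
    obtain ⟨i⟩ := CochainH0.nonempty_rightDerived_H0_iso (q + 1) ((cxSh J K).obj Q)
    exact (isZero_cechCxSite_homology K hK Q q).of_iso i
  · obtain ⟨i⟩ := hH n
    obtain ⟨j⟩ := nonempty_rightDerived_comp_exact (preadditiveCoyoneda.obj (op G)) (𝟭 _)
      (cxSh J K ⋙ CochainH0.H0) ((toH0Iso J K hK).symm ≪≫ (Functor.rightUnitor _).symm) F n
    exact ⟨j ≪≫ (Groth.LocCohZBase.ExtDerived.derivedIso G n).app F ≪≫
      AddEquiv.toAddCommGrpIso (X := AddCommGrpCat.of (Abelian.Ext.{u} G F n))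
        (Y := AddCommGrpCat.of (Sheaf.H F n))
        (extIsoLeft (freeShOneIso (J := J)) F n).symm ≪≫ i⟩
  · obtain ⟨i⟩ := hP p q
    obtain ⟨j⟩ := nonempty_rightDerivedSheafToPresheaf_iso F q
    obtain ⟨k⟩ := nonempty_rightDerived_comp_exact (sheafToPresheaf J AddCommGrpCat.{u}) (cxPre K)
      (cxSh J K) (Iso.refl _) F q
    obtain ⟨l⟩ := CochainH0.nonempty_rightDerived_H0_iso p
      ((cxPre K).obj (F.cohomologyPresheaf q))
    exact ⟨(CochainH0.H0.rightDerived p).mapIso (k ≪≫ (cxPre K).mapIso j) ≪≫ l ≪≫ i⟩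

end Groth.Misc7.GSS.HyperCech
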