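import Groth.Agent.Misc7.GSS.Composite
import Groth.Agent.SiteCohomology.HigherDirectImage
import Groth.Agent.SiteCohomology.ModulesGrothendieck
import Groth.Agent.SiteCohomology.HK
import Groth.Agent.LocCohZBase.ExtDerived
import Mathlib.CategoryTheory.Sites.Sheaf

/-!
# From presheaf cohomology to sheaf cohomology

The spectral sequence `H^p_pre(R, H^q(M)) ⇒ H^{p+q}(aR, M)`.
-/

set_option autoImplicit false
set_option maxHeartbeats 2000000
set_option synthInstance.maxHeartbeats 400000

universe u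

open CategoryTheory CategoryTheory.Limits Opposite
open Groth.SiteCohomology

namespace Groth.Misc7.GSS

variable {C : Type u} [SmallCategory C] (J : GrothendieckTopology C)

/-- A presheaf as a sheaf for the trivial topology. -/
noncomputable abbrev toBot : (Cᵒᵖ ⥤ AddCommGrpCat.{u}) ⥤ Sheaf (⊥ : GrothendieckTopology C) AddCommGrpCat.{u} :=
  (sheafBotEquivalence (C := C) AddCommGrpCat.{u}).inverse

/-- The inclusion of sheaves into presheaves. -/
noncomputable abbrev sheafToBot : Sheaf J AddCommGrpCat.{u} ⥤ Sheaf (⊥ : GrothendieckTopology C) AddCommGrpCat.{u} :=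
  sheafToPresheaf J AddCommGrpCat.{u} ⋙ toBot

/-- Sheafification is left adjoint to the inclusion. -/
noncomputable def sheafToBotAdj :
    sheafToPresheaf (⊥ : GrothendieckTopology C) AddCommGrpCat.{u} ⋙ presheafToSheaf J AddCommGrpCat.{u} ⊣
      sheafToBot J :=
  (sheafBotEquivalence (C := C) AddCommGrpCat.{u}).toAdjunction.comp (sheafificationAdjunction J AddCommGrpCat.{u})

instance additive_toBot : (toBot (C := C)).Additive := Functor.additive_of_preserves_binary_products _

instance additive_sheafToBot : (sheafToBot J).Additive := inferInstance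

/-- The free sheaf as a sheafification. -/
noncomputable def freeShBotIso (R : Cᵒᵖ ⥤ Type u) :
    (sheafToPresheaf (⊥ : GrothendieckTopology C) AddCommGrpCat.{u} ⋙ presheafToSheaf J AddCommGrpCat.{u}).obj
      ((freeSh (⊥ : GrothendieckTopology C)).obj R) ≅ (freeSh J).obj R :=
  (presheafToSheaf J AddCommGrpCat.{u}).mapIso
    (isoSheafify (⊥ : GrothendieckTopology C) (Presheaf.isSheaf_bot (R ⋙ AddCommGrpCat.free.{u}))).symm

/-- Presheaf homomorphisms into a sheaf. -/
noncomputable def homBotIso (R : Cᵒᵖ ⥤ Type u) :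
    preadditiveCoyoneda.obj (op ((freeSh J).obj R)) ≅
      sheafToBot J ⋙ preadditiveCoyoneda.obj (op ((freeSh (⊥ : GrothendieckTopology C)).obj R)) :=
  haveI : (sheafToPresheaf (⊥ : GrothendieckTopology C) AddCommGrpCat.{u} ⋙
      presheafToSheaf J AddCommGrpCat.{u}).Additive :=
    (sheafToBotAdj J).left_adjoint_additive
  preadditiveCoyoneda.mapIso (freeShBotIso J R).op ≪≫
    NatIso.ofComponents (fun M => AddEquiv.toAddCommGrpIso ((sheafToBotAdj J).homAddEquiv _ M))
      (fun g => by
        ext x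
        exact (sheafToBotAdj J).homEquiv_naturality_right x g)

/-- The spectral sequence from presheaf cohomology to sheaf cohomology. -/
theorem exists_presheafSS (R : Cᵒᵖ ⥤ Type u) (M : Sheaf J AddCommGrpCat.{u})
    (H : ℤ → AddCommGrpCat.{u})
    (hH : ∀ n : ℕ, Nonempty (AddCommGrpCat.of (Abelian.Ext ((freeSh J).obj R) M n) ≅ H n))
    (hH' : ∀ n : ℤ, n < 0 → IsZero (H n))
    (P : ℤ → ℤ → AddCommGrpCat.{u})
    (hP : ∀ p q : ℕ, Nonempty (AddCommGrpCat.of (Abelian.Ext ((freeSh (⊥ : GrothendieckTopology C)).obj R)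
      (toBot.obj (M.cohomologyPresheaf q)) p) ≅ P p q))
    (hP' : ∀ p q : ℤ, ¬ (0 ≤ p ∧ 0 ≤ q) → IsZero (P p q)) :
    ∃ (E : E₂CohomologicalSpectralSequence AddCommGrpCat.{u}) (a : SpSeq.Abutment E H),
      (∀ n, a.IsFinite n) ∧ SpSeq.IsBounded E ∧
      ∀ p q : ℤ, Nonempty ((E.page 2 le_rfl).X (p, q) ≅ P p q) := by
  let G := (freeSh (⊥ : GrothendieckTopology C)).obj R
  haveI : PreservesFiniteLimits (sheafToPresheaf (⊥ : GrothendieckTopology C) AddCommGrpCat.{u} ⋙
      presheafToSheaf J AddCommGrpCat.{u}) := comp_preservesFiniteLimits _ _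
  haveI : PreservesFiniteLimits (preadditiveCoyoneda.obj (op G) ⋙ forget AddCommGrpCat.{u}) :=
    inferInstanceAs (PreservesFiniteLimits (coyoneda.obj (op G)))
  haveI : PreservesFiniteLimits (preadditiveCoyoneda.obj (op G)) :=
    preservesFiniteLimits_of_reflects_of_preserves _ (forget AddCommGrpCat.{u})
  refine exists_composite (sheafToBot J) (preadditiveCoyoneda.obj (op G))
    (fun Q hQ q => ?_) M H (fun n => ?_) hH' P (fun p q => ?_) hP'
  · haveI : Injective ((sheafToBot J).obj Q) := Injective.injective_of_adjoint (sheafToBotAdj J) Q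
    exact (preadditiveCoyoneda.obj (op G)).isZero_rightDerived_obj_injective_succ q _
  · obtain ⟨i⟩ := hH n
    obtain ⟨j⟩ := nonempty_rightDerived_comp_exact (preadditiveCoyoneda.obj (op ((freeSh J).obj R))) (𝟭 _)
      (sheafToBot J ⋙ preadditiveCoyoneda.obj (op G)) ((homBotIso J R).symm ≪≫ (Functor.rightUnitor _).symm) M n
    exact ⟨j ≪≫ (Groth.LocCohZBase.ExtDerived.derivedIso ((freeSh J).obj R) n).app M ≪≫ i⟩
  · obtain ⟨i⟩ := hP p q
    obtain ⟨j⟩ := nonempty_rightDerivedSheafToPresheaf_iso M q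
    obtain ⟨k⟩ := nonempty_rightDerived_comp_exact (sheafToPresheaf J AddCommGrpCat.{u}) toBot
      (sheafToBot J) (Iso.refl _) M q
    exact ⟨((preadditiveCoyoneda.obj (op G)).rightDerived p).mapIso (k ≪≫ toBot.mapIso j) ≪≫
      (Groth.LocCohZBase.ExtDerived.derivedIso G p).app _ ≪≫ i⟩

end Groth.Misc7.GSS
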