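import Mathlib.Algebra.Homology.DerivedCategory.DerivabilityStructureInjectives
import Mathlib.Algebra.Homology.DerivedCategory.FullyFaithful
import Mathlib.CategoryTheory.Triangulated.Adjunction
import Mathlib.Algebra.Homology.HomotopyCategory.ShiftSequence

/-!
# `D^+` as the homotopy category of injectives
-/

set_option autoImplicit false
set_option maxHeartbeats 1000000
set_option synthInstance.maxHeartbeats 400000

universe v u v' u'

open CategoryTheory CategoryTheory.Limits CategoryTheory.Pretriangulated

attribute [local instance] HasDerivedCategory.standard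

namespace Groth.Misc7.GSS

variable (C : Type u) [Category.{v} C] [Abelian C] [EnoughInjectives C]

/-- The comparison functor `K^+(Inj) ⥤ D^+`. -/
noncomputable abbrev injQ : HomotopyCategory.Plus (InjectiveObject C) ⥤ DerivedCategory.Plus C :=
  (InjectiveObject.ι C).mapHomotopyCategoryPlus ⋙ DerivedCategory.Plus.Qh

omit [EnoughInjectives C] in
lemma isKInjective_injQ (K : HomotopyCategory.Plus (InjectiveObject C)) :
    CochainComplex.IsKInjective ((InjectiveObject.ι C).mapHomotopyCategoryPlus.obj K).obj.as := by
  obtain ⟨K, rfl⟩ := HomotopyCategory.Plus.quotient_obj_surjective K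
  exact inferInstanceAs (CochainComplex.IsKInjective
    (((InjectiveObject.ι C).mapHomologicalComplex (.up ℤ)).obj K.obj))

instance : (injQ C).Full where
  map_surjective {K L} f := by
    obtain ⟨g, hg⟩ := (DerivedCategory.Plus.Qh_map_bijective_of_isKInjective _ _ (isKInjective_injQ C L)).2 f
    obtain ⟨h, rfl⟩ := (InjectiveObject.ι C).mapHomotopyCategoryPlus.map_surjective g
    exact ⟨h, hg⟩

instance : (injQ C).Faithful where
  map_injective {K L} f g h :=
    (InjectiveObject.ι C).mapHomotopyCategoryPlus.map_injective
      ((DerivedCategory.Plus.Qh_map_bijective_of_isKInjective _ _ (isKInjective_injQ C L)).1 h)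

instance : (injQ C).IsEquivalence where

/-- The inverse of the comparison functor. -/
noncomputable abbrev injQInv : DerivedCategory.Plus C ⥤ HomotopyCategory.Plus (InjectiveObject C) :=
  (injQ C).asEquivalence.inverse

noncomputable instance : (injQ C).asEquivalence.functor.CommShift ℤ :=
  inferInstanceAs ((injQ C).CommShift ℤ)

instance : (injQ C).asEquivalence.functor.IsTriangulated :=
  inferInstanceAs ((injQ C).IsTriangulated)

noncomputable instance : (injQInv C).CommShift ℤ := (injQ C).asEquivalence.commShiftInverse ℤ

noncomputable instance : (injQ C).asEquivalence.toAdjunction.CommShift ℤ :=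
  (injQ C).asEquivalence.commShift_of_functor ℤ

instance : (injQInv C).IsTriangulated := (injQ C).asEquivalence.toAdjunction.isTriangulated_rightAdjoint

variable {C} {D : Type u'} [Category.{v'} D] [Abelian D] (F : C ⥤ D) [F.Additive]

/-- The derived functor of `F`, valued in the homotopy category. -/
noncomputable abbrev RK : DerivedCategory.Plus C ⥤ HomotopyCategory D (ComplexShape.up ℤ) :=
  injQInv C ⋙ (InjectiveObject.ι C ⋙ F).mapHomotopyCategoryPlus ⋙ HomotopyCategory.Plus.ι D

noncomputable example : (RK F).CommShift ℤ := inferInstance
example : (RK F).IsTriangulated := inferInstance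
noncomputable example : ((HomotopyCategory.homologyFunctor D (ComplexShape.up ℤ) 0)).ShiftSequence ℤ := inferInstance
example : (RK F ⋙ HomotopyCategory.homologyFunctor D (ComplexShape.up ℤ) 0).IsHomological := inferInstance

end Groth.Misc7.GSS
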