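import Groth.Agent.Misc7.GSS.LocalToGlobal
import Groth.Agent.Misc4.FreeOn
import Groth.Agent.SiteCohomology.CechResolution
import Groth.Prelude.Def_ExtSupp

/-!
# `Hom` with supports: `Hom(ℤ/ℤ_U, ℋom(M, N)) = Hom(M/M_U, N)`
-/

set_option autoImplicit false
set_option maxHeartbeats 2000000
set_option synthInstance.maxHeartbeats 400000
set_option backward.defeqAttrib.useBackward true
set_option backward.isDefEq.respectTransparency false

universe u

open CategoryTheory CategoryTheory.Limits Opposite MonoidalCategory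
open Groth.SiteCohomology Groth.SitesTopoi.ModH Groth.Misc4.InternalHomAcyclic

namespace Groth.Misc7.GSS

variable {C : Type u} [SmallCategory C] {J : GrothendieckTopology C} {O : Sheaf J CommRingCat.{u}}

/-- The map to the terminal presheaf of sets. -/
def toOne (P : Cᵒᵖ ⥤ Type u) : P ⟶ onePsh C where
  app _ := ↾fun _ => PUnit.unit

lemma toOne_ext {P : Cᵒᵖ ⥤ Type u} (f g : P ⟶ onePsh C) : f = g := by
  ext c x
  exact Subsingleton.elim (α := PUnit.{u + 1}) _ _

section Cmp

variable {P Q : Cᵒᵖ ⥤ Type u} (t : P ⟶ Q)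

/-- The comparison of cokernels of free sheaves and free modules. -/
noncomputable def cokerCmp : cokernel ((freeSh J).map t) ⟶
    (SheafOfModules.toSheaf (ModSite.ringSh O)).obj (cokernel ((freeM O).map t)) :=
  cokernel.desc _ ((cmpFree O).app Q ≫ (SheafOfModules.toSheaf (ModSite.ringSh O)).map (cokernel.π _)) (by
    refine ((cmpFree O).naturality_assoc t _).trans ?_
    dsimp
    rw [← Functor.map_comp, cokernel.condition, Functor.map_zero, comp_zero])

lemma bijective_cokerCmp (G : ModSite.Mod O) :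
    Function.Bijective fun g : cokernel ((freeM O).map t) ⟶ G =>
      cokerCmp t ≫ (SheafOfModules.toSheaf (ModSite.ringSh O)).map g := by
  have key : ∀ g : cokernel ((freeM O).map t) ⟶ G,
      cokernel.π ((freeSh J).map t) ≫ cokerCmp t ≫ (SheafOfModules.toSheaf (ModSite.ringSh O)).map g =
        (cmpFree O).app Q ≫ (SheafOfModules.toSheaf (ModSite.ringSh O)).map (cokernel.π _ ≫ g) := fun g => by
    rw [cokerCmp, cokernel.π_desc_assoc, Category.assoc, Functor.map_comp]
  refine ⟨fun a b h => ?_, fun x => ?_⟩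
  · have e := congrArg (cokernel.π ((freeSh J).map t) ≫ ·) h
    simp only [key] at e
    exact (cancel_epi _).1 ((bijective_cmpFree Q G).1 e)
  · obtain ⟨y, hy⟩ := (bijective_cmpFree Q G).2 (cokernel.π ((freeSh J).map t) ≫ x)
    have h0 : (freeM O).map t ≫ y = 0 := by
      refine (bijective_cmpFree P G).1 ?_
      show (cmpFree O).app P ≫ (SheafOfModules.toSheaf (ModSite.ringSh O)).map ((freeM O).map t ≫ y) = _
      rw [Functor.map_comp]
      refine ((cmpFree O).naturality_assoc t _).symm.trans ?_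
      refine (congrArg ((freeSh J).map t ≫ ·) hy).trans ?_
      refine (cokernel.condition_assoc _ _).trans ?_
      simp
    refine ⟨cokernel.desc _ y h0, (cancel_epi (cokernel.π ((freeSh J).map t))).1 ?_⟩
    rw [key, cokernel.π_desc]
    exact hy

/-- Homomorphisms out of the cokernel, linearised. -/
noncomputable def homCokerIso :
    preadditiveCoyoneda.obj (op (cokernel ((freeM O).map t))) ≅
      SheafOfModules.toSheaf (ModSite.ringSh O) ⋙ preadditiveCoyoneda.obj (op (cokernel ((freeSh J).map t))) :=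
  NatIso.ofComponents (fun G => AddEquiv.toAddCommGrpIso
    (AddEquiv.ofBijective (AddMonoidHom.mk'
      (fun g => cokerCmp t ≫ (SheafOfModules.toSheaf (ModSite.ringSh O)).map g)
      (fun a b => by rw [Functor.map_add, Preadditive.comp_add])) (bijective_cokerCmp t G)))
    (fun {G G'} h => by
      ext g
      exact (congrArg (cokerCmp t ≫ ·) ((SheafOfModules.toSheaf (ModSite.ringSh O)).map_comp g h)).trans
        (Category.assoc _ _ _).symm)

end Cmp

variable (U : C) (M : ModSite.Mod O)

/-- The inclusion `M_U ⟶ M`, on presheaves. -/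
noncomputable def preIncl : (Groth.Misc4.FreeOn.freeYon O U ⊗ M.val : PM O) ⟶ M.val :=
  MonoidalCategory.whiskerRight (C := PM O)
    ((PresheafOfModules.free.{u} (O.obj ⋙ forget₂ CommRingCat.{u} RingCat.{u})).map (toOne (yoneda.obj U)) ≫
      freeOneIso.hom) M.val ≫ (MonoidalCategory.leftUnitor (C := PM O) M.val).hom

lemma eval_leftUnitor {R : Type u} [CommRing R] {X : Type u} (f : X ⟶ PUnit.{u + 1}) (N : ModuleCat.{u} R)
    (x : X) (m : N) :
    (λ_ N).hom.hom ((((ModuleCat.free.{u} R).map f ≫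
      (Finsupp.uniqueLinearEquiv R R PUnit.unit.{u + 1}).toModuleIso.hom) ▷ N).hom
        (ModuleCat.freeMk x ⊗ₜ[R] m)) = m := by
  erw [ModuleCat.MonoidalCategory.whiskerRight_apply, ModuleCat.MonoidalCategory.leftUnitor_hom_apply]
  erw [ConcreteCategory.comp_apply, ModuleCat.free_map_apply]
  show (Finsupp.single PUnit.unit.{u + 1} (1 : R) : PUnit.{u + 1} →₀ R) PUnit.unit • m = m
  erw [Finsupp.single_eq_same]
  exact one_smul _ _

lemma overEquiv_preIncl : Groth.Misc4.FreeOn.overEquiv U M M (preIncl U M) = 𝟙 _ := by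
  apply SheafOfModules.hom_ext
  refine PresheafOfModules.hom_ext fun V => ?_
  ext m
  exact eval_leftUnitor (R := O.obj.obj (op V.unop.left)) ((toOne (yoneda.obj U)).app (op V.unop.left))
    ((M.val : PM O).obj (op V.unop.left)) V.unop.hom m

/-- The inclusion `M_U ⟶ M`. -/
noncomputable def inclU : (aP O).obj (Groth.Misc4.FreeOn.freeYon O U ⊗ M.val : PM O) ⟶ M :=
  ((adjP O).homEquiv _ _).symm (preIncl U M)

variable {M} in
lemma inclU_comp_eq_zero_iff {N : ModSite.Mod O} (g : M ⟶ N) :
    inclU U M ≫ g = 0 ↔ (ModSite.extZeroAdj O U).counit.app M ≫ g = 0 := by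
  rw [← ExtSupp.mem_homZ_iff]
  have hz : (preIncl U M) ≫ (0 : M ⟶ N).val = 0 := comp_zero
  have h0 : ((adjP O).homEquiv _ _) (inclU U M ≫ g) = preIncl U M ≫ g.val := by
    rw [Adjunction.homEquiv_naturality_right, inclU, Equiv.apply_symm_apply]
    rfl
  have h1 : inclU U M ≫ g = 0 ↔ preIncl U M ≫ g.val = 0 := by
    rw [← h0, ← ((adjP O).homEquiv _ _).injective.eq_iff]
    exact Iff.of_eq (congrArg (_ = ·) ((adjP O).homEquiv_unit _ _ _ |>.trans comp_zero))
  rw [h1, ← hz, ← (Groth.Misc4.FreeOn.overEquiv U M N).injective.eq_iff,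
    Groth.Misc4.FreeOn.overEquiv_comp U M g, Groth.Misc4.FreeOn.overEquiv_comp U M (0 : M ⟶ N),
    overEquiv_preIncl, Category.id_comp, Category.id_comp, Functor.map_zero]
  rfl

/-- `M/M_U` as the cokernel of the inclusion. -/
noncomputable def cokerInclIso : cokernel (inclU U M) ≅ (ModSite.quotOn O U).obj M where
  hom := cokernel.desc _ (cokernel.π ((ModSite.extZeroAdj O U).counit.app M))
    ((inclU_comp_eq_zero_iff U _).2 (cokernel.condition _))
  inv := cokernel.desc _ (cokernel.π (inclU U M)) ((inclU_comp_eq_zero_iff U _).1 (cokernel.condition _))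
  hom_inv_id := by
    apply coequalizer.hom_ext
    exact (cokernel.π_desc_assoc _ _ _ _).trans ((cokernel.π_desc _ _ _).trans (Category.comp_id _).symm)
  inv_hom_id := by
    apply coequalizer.hom_ext
    exact (cokernel.π_desc_assoc _ _ _ _).trans ((cokernel.π_desc _ _ _).trans (Category.comp_id _).symm)

instance : ((ModSite.tensorBi O).flip.obj M).Additive :=
  Groth.SitesTopoi.Balanced.additive_of_rightExact _

/-- The cokernel of the tensored inclusion. -/
noncomputable def cokerTensorIso :
    ((ModSite.tensorBi O).flip.obj M).obj (cokernel ((freeM O).map (toOne (yoneda.obj U)))) ≅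
      (ModSite.quotOn O U).obj M :=
  PreservesCokernel.iso ((ModSite.tensorBi O).flip.obj M) ((freeM O).map (toOne (yoneda.obj U))) ≪≫
    cokernel.mapIso _ (inclU U M) ((aPTensorFlipIso M).app _) (tensorOneIso M).symm (by
      rw [inclU, Adjunction.homEquiv_counit]
      simp only [tensorOneIso, Iso.trans_symm, Iso.trans_inv, Iso.trans_hom, Iso.symm_hom, Iso.symm_symm_eq,
        Category.assoc, Functor.mapIso_inv, asIso_hom, Iso.app_hom, preIncl, comp_whiskerRight, Functor.map_comp,
        whiskerRightIso_inv, Iso.symm_inv]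
      exact ((aPTensorFlipIso M).hom.naturality_assoc
        ((PresheafOfModules.free.{u} (O.obj ⋙ forget₂ CommRingCat.{u} RingCat.{u})).map (toOne (yoneda.obj U))) _)) ≪≫
    cokerInclIso U M

/-- `ℤ/ℤ_U` as a cokernel of free sheaves. -/
noncomputable def quotZIso :
    ToposFin.quotZ (ToposFin.eps J U) ≅ cokernel ((freeSh J).map (toOne (yoneda.obj U))) :=
  haveI := isIso_freeSh_map_toSheafify J (yoneda.obj U)
  (cokernel.mapIso ((freeSh J).map (toOne (yoneda.obj U))) _ (asIso ((freeSh J).map (toSheafify J (yoneda.obj U))))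
    ((freeSh J).mapIso ((IsTerminal.ofUniqueHom (fun P => toOne P) (fun _ _ => toOne_ext _ _)).uniqueUpToIso
      (IsTerminal.isTerminalObj (sheafToPresheaf J (Type u)) _ terminalIsTerminal)))
    (by
      exact ((freeSh J).map_comp _ _).symm.trans ((congrArg (freeSh J).map
        ((IsTerminal.isTerminalObj (sheafToPresheaf J (Type u)) _ terminalIsTerminal).hom_ext _ _)).trans
        ((freeSh J).map_comp _ _)))).symm

variable [ModSite.HasSheafHom M]

/-- `Hom(ℤ/ℤ_U, ℋom(M, -)) = Hom(M/M_U, -)`. -/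
noncomputable def homQuotZIso :
    preadditiveCoyoneda.obj (op ((ModSite.quotOn O U).obj M)) ≅
      (ModSite.sheafHom M ⋙ SheafOfModules.toSheaf (ModSite.ringSh O)) ⋙
        preadditiveCoyoneda.obj (op (ToposFin.quotZ (ToposFin.eps J U))) :=
  preadditiveCoyoneda.mapIso (cokerTensorIso U M).op ≪≫
    (NatIso.ofComponents
      (fun N => AddEquiv.toAddCommGrpIso ((ModSite.sheafHomAdj M).homAddEquiv
        (cokernel ((freeM O).map (toOne (yoneda.obj U)))) N))
      (fun {N N'} g => by
        ext x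
        exact (ModSite.sheafHomAdj M).homEquiv_naturality_right x g) :
      preadditiveCoyoneda.obj (op (((ModSite.tensorBi O).flip.obj M).obj
          (cokernel ((freeM O).map (toOne (yoneda.obj U)))))) ≅
        ModSite.sheafHom M ⋙ preadditiveCoyoneda.obj (op (cokernel ((freeM O).map (toOne (yoneda.obj U)))))) ≪≫
    Functor.isoWhiskerLeft (ModSite.sheafHom M) (homCokerIso (toOne (yoneda.obj U))) ≪≫
    (Functor.associator _ _ _).symm ≪≫
    Functor.isoWhiskerLeft _ (preadditiveCoyoneda.mapIso (quotZIso U).op)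

lemma mono_tensor_free_map {P Q : Cᵒᵖ ⥤ Type u} (f : P ⟶ Q) (hf : ∀ c, Function.Injective (f.app c))
    (M : ModSite.Mod O) : Mono (((ModSite.tensorBi O).flip.obj M).map ((freeM O).map f)) := by
  let φ := MonoidalCategory.whiskerRight (C := PM O)
    ((PresheafOfModules.free.{u} (O.obj ⋙ forget₂ CommRingCat.{u} RingCat.{u})).map f) M.val
  have : Mono φ := by
    have : ∀ c, Mono ((PresheafOfModules.toPresheaf _).map φ |>.app c) := fun c => by
      classical
      let Rc := O.obj.obj c
      let a : (ModuleCat.free.{u} Rc).obj (P.obj c) ⟶ (ModuleCat.free.{u} Rc).obj (Q.obj c) :=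
        (ModuleCat.free.{u} Rc).map (f.app c)
      let r : (ModuleCat.free.{u} Rc).obj (Q.obj c) ⟶ (ModuleCat.free.{u} Rc).obj (P.obj c) :=
        ModuleCat.freeDesc (↾fun y => if h : ∃ x, f.app c x = y then ModuleCat.freeMk h.choose else 0)
      have har : a ≫ r = 𝟙 _ := ModuleCat.free_hom_ext fun x => by
        show r (a (ModuleCat.freeMk x)) = _
        erw [ModuleCat.free_map_apply, ModuleCat.freeDesc_apply]
        have h : ∃ y, f.app c y = f.app c x := ⟨x, rfl⟩
        show dite _ _ _ = _
        rw [dif_pos h, hf c h.choose_spec]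
        rfl
      let Mc : ModuleCat.{u} Rc := M.val.obj c
      have : IsSplitMono a := IsSplitMono.mk' ⟨r, har⟩
      exact inferInstanceAs (Mono ((forget₂ (ModuleCat.{u} Rc) AddCommGrpCat.{u}).map
        ((tensorRight Mc).map a)))
    have := NatTrans.mono_of_mono_app ((PresheafOfModules.toPresheaf _).map φ)
    exact (PresheafOfModules.toPresheaf _).mono_of_mono_map this
  have hm : Mono ((tensorRight (C := PM O) M.val ⋙ aP O).map
      ((PresheafOfModules.free.{u} (O.obj ⋙ forget₂ CommRingCat.{u} RingCat.{u})).map f)) :=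
    inferInstanceAs (Mono ((aP O).map φ))
  have := (aPTensorFlipIso M).hom.naturality
    ((PresheafOfModules.free.{u} (O.obj ⋙ forget₂ CommRingCat.{u} RingCat.{u})).map f)
  rw [← IsIso.eq_comp_inv] at this
  rw [show ((ModSite.tensorBi O).flip.obj M).map ((freeM O).map f) = _ from this]
  infer_instance

omit [ModSite.HasSheafHom M] in
/-- The internal hom into an injective is acyclic for `ℤ/ℤ_U`. -/
theorem subsingleton_ext_quotZ_sheafHom [ModSite.HasSheafHom M] (Q : ModSite.Mod O) [Injective Q] (q : ℕ) :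
    Subsingleton (Abelian.Ext.{u} (ToposFin.quotZ (ToposFin.eps J U))
      (ModSite.toAb ((ModSite.sheafHom M).obj Q)) (q + 1)) := by
  have hta := isTotallyAcyclic_sheafHom M Q
  let F := ModSite.toAb ((ModSite.sheafHom M).obj Q)
  let t := toOne (yoneda.obj U)
  let R : Subfunctor (onePsh C) := Subfunctor.range t
  have : Epi (Subfunctor.toRange t) := by
    have : ∀ c, Epi ((Subfunctor.toRange t).app c) := fun c => by
      rw [CategoryTheory.epi_iff_surjective]
      rintro ⟨b, a, ha⟩
      exact ⟨a, Subtype.ext ha⟩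
    exact NatTrans.epi_of_epi_app _
  have : (freeSh J).IsLeftAdjoint := (freeShAdj J).isLeftAdjoint
  have : Mono R.ι := by
    have : ∀ c, Mono (R.ι.app c) := fun c => (mono_iff_injective _).2 Subtype.val_injective
    exact NatTrans.mono_of_mono_app _
  have hmono : Mono ((freeSh J).map R.ι) := mono_freeSh_map J R.ι
  let S := ShortComplex.mk ((freeSh J).map R.ι) (cokernel.π ((freeSh J).map R.ι)) (cokernel.condition _)
  have hS : S.ShortExact := { exact := ShortComplex.exact_cokernel _ }
  have e : ToposFin.quotZ (ToposFin.eps J U) ≅ S.X₃ :=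
    quotZIso U ≪≫ cokernelIsoOfEq (((freeSh J).map_comp _ _).symm.trans
      (congrArg (freeSh J).map (Subfunctor.toRange_ι t))).symm ≪≫
      cokernelEpiComp ((freeSh J).map (Subfunctor.toRange t)) ((freeSh J).map R.ι)
  suffices h : Subsingleton (Abelian.Ext.{u} S.X₃ F (q + 1)) from
    (extIsoLeft e F (q + 1)).symm.subsingleton
  have h2 : Subsingleton (Abelian.Ext.{u} S.X₂ F (q + 1)) :=
    hta (⟨onePsh C, isSheaf_onePsh⟩ : Sheaf J (Type u)) q
  refine subsingleton_of_forall_eq 0 fun x => ?_
  obtain ⟨y, rfl⟩ := Abelian.Ext.contravariant_sequence_exact₃ hS F x (Subsingleton.elim _ _)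
    (Nat.add_comm 1 q)
  cases q with
  | succ k =>
    have : Subsingleton (Abelian.Ext.{u} S.X₁ F (k + 1)) := by
      have := isIso_freeSh_map_toSheafify J R.toFunctor
      have hk : Subsingleton (Abelian.Ext.{u} ((freeSh J).obj (sheafify J R.toFunctor)) F (k + 1)) :=
        hta ((presheafToSheaf J (Type u)).obj R.toFunctor) k
      exact (extIsoLeft (asIso ((freeSh J).map (toSheafify J R.toFunctor))) F (k + 1)).symm.subsingleton
    rw [Subsingleton.elim y 0, Abelian.Ext.comp_zero]
  | zero =>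
    obtain ⟨f, rfl⟩ := Abelian.Ext.addEquiv₀.symm.surjective y
    obtain ⟨w, hw⟩ := (bijective_cmpFree R.toFunctor ((ModSite.sheafHom M).obj Q)).2 f
    have := mono_tensor_free_map R.ι (fun c => Subtype.val_injective) M
    let w' := Injective.factorThru (((ModSite.sheafHomAdj M).homEquiv _ _).symm w)
      (((ModSite.tensorBi O).flip.obj M).map ((freeM O).map R.ι))
    have hw' : (freeM O).map R.ι ≫ (ModSite.sheafHomAdj M).homEquiv _ _ w' = w := by
      rw [← Adjunction.homEquiv_naturality_left, Injective.comp_factorThru, Equiv.apply_symm_apply]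
    let g := (cmpFree O).app (onePsh C) ≫
      (SheafOfModules.toSheaf (ModSite.ringSh O)).map ((ModSite.sheafHomAdj M).homEquiv _ _ w')
    have hg : S.f ≫ g = f := by
      refine ((cmpFree O).naturality_assoc R.ι _).trans ?_
      refine (congrArg ((cmpFree O).app R.toFunctor ≫ ·)
        (((SheafOfModules.toSheaf (ModSite.ringSh O)).map_comp _ _).symm.trans
          (congrArg (SheafOfModules.toSheaf (ModSite.ringSh O)).map hw'))).trans hw
    rw [← hg, Abelian.Ext.addEquiv₀_symm_apply, ← Abelian.Ext.mk₀_comp_mk₀,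
      hS.extClass_comp_assoc]

/-- The spectral sequence `H^p_Z(ℰxt^q(M, N)) ⇒ Ext^{p+q}_Z(M, N)`. -/
theorem exists_supportSS [HasInjectiveResolutions (ModSite.Mod O)] [HasExt.{u} (ModSite.Mod O)]
    (N : ModSite.Mod O) (H : ℤ → AddCommGrpCat.{u})
    (hH : ∀ n : ℕ, Nonempty (AddCommGrpCat.of (ExtSupp.ExtZ U M N n) ≅ H n))
    (hH' : ∀ n : ℤ, n < 0 → IsZero (H n))
    (P : ℤ → ℤ → AddCommGrpCat.{u})
    (hP : ∀ p q : ℕ, Nonempty (AddCommGrpCat.of (ModSite.HZ U ((ModSite.extSh M q).obj N) p) ≅ P p q))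
    (hP' : ∀ p q : ℤ, ¬ (0 ≤ p ∧ 0 ≤ q) → IsZero (P p q)) :
    ∃ (E : E₂CohomologicalSpectralSequence AddCommGrpCat.{u}) (a : SpSeq.Abutment E H),
      (∀ n, a.IsFinite n) ∧ SpSeq.IsBounded E ∧
      ∀ p q : ℤ, Nonempty ((E.page 2 le_rfl).X (p, q) ≅ P p q) := by
  let G := ToposFin.quotZ (ToposFin.eps J U)
  have : PreservesFiniteLimits (preadditiveCoyoneda.obj (op G) ⋙ forget AddCommGrpCat.{u}) :=
    inferInstanceAs (PreservesFiniteLimits (coyoneda.obj (op G)))
  have : PreservesFiniteLimits (preadditiveCoyoneda.obj (op G)) :=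
    preservesFiniteLimits_of_reflects_of_preserves _ (forget AddCommGrpCat.{u})
  refine exists_composite (ModSite.sheafHom M ⋙ SheafOfModules.toSheaf (ModSite.ringSh O))
    (preadditiveCoyoneda.obj (op G)) (fun Q hQ q => ?_) N H (fun n => ?_) hH' P (fun p q => ?_) hP'
  · have := subsingleton_ext_quotZ_sheafHom U M Q q
    exact (AddCommGrpCat.isZero_of_subsingleton (AddCommGrpCat.of (Abelian.Ext.{u} G
      (ModSite.toAb ((ModSite.sheafHom M).obj Q)) (q + 1)))).of_iso
      ((Groth.LocCohZBase.ExtDerived.derivedIso G (q + 1)).app _)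
  · obtain ⟨i⟩ := hH n
    obtain ⟨j⟩ := nonempty_rightDerived_comp_exact
      (preadditiveCoyoneda.obj (op ((ModSite.quotOn O U).obj M))) (𝟭 _)
      ((ModSite.sheafHom M ⋙ SheafOfModules.toSheaf (ModSite.ringSh O)) ⋙ preadditiveCoyoneda.obj (op G))
      ((homQuotZIso U M).symm ≪≫ (Functor.rightUnitor _).symm) N n
    exact ⟨j ≪≫ (Groth.LocCohZBase.ExtDerived.derivedIso ((ModSite.quotOn O U).obj M) n).app N ≪≫ i⟩
  · obtain ⟨i⟩ := hP p q
    obtain ⟨k⟩ := nonempty_rightDerived_comp_exact (ModSite.sheafHom M) (SheafOfModules.toSheaf (ModSite.ringSh O))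
      (ModSite.sheafHom M ⋙ SheafOfModules.toSheaf (ModSite.ringSh O)) (Iso.refl _) N q
    exact ⟨((preadditiveCoyoneda.obj (op G)).rightDerived p).mapIso k ≪≫
      (Groth.LocCohZBase.ExtDerived.derivedIso G p).app _ ≪≫ i⟩

end Groth.Misc7.GSS
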