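import Groth.Agent.Misc7.GSS.Support
import Groth.Agent.LocCohZBase.GammaHom
import Groth.Agent.LocCohZBase.QuotOnExact
import Groth.Agent.SitesTopoi.Mod.Invertible
import Groth.Agent.SiteCohomology.AcyclicResolution

/-!
# The spectral sequence `H^p(C, ℋ^q_Z(M)) ⇒ H^{p+q}_Z(M)`
-/

set_option autoImplicit false
set_option maxHeartbeats 2000000
set_option synthInstance.maxHeartbeats 400000
set_option backward.defeqAttrib.useBackward true
set_option backward.isDefEq.respectTransparency false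

universe u

open CategoryTheory CategoryTheory.Limits Opposite
open Groth.SiteCohomology Groth.SitesTopoi.ModH Groth.Misc4.InternalHomAcyclic

namespace Groth.Misc7.GSS

variable {C : Type u} [SmallCategory C] {J : GrothendieckTopology C} {O : Sheaf J CommRingCat.{u}}

/-- `- ⊗ O` is the identity. -/
noncomputable def flipUnitIso : (ModSite.tensorBi O).flip.obj (ModSite.unit O) ≅ 𝟭 _ :=
  (Groth.SitesTopoi.Invertible.symNatIso (ModSite.unit O)).symm ≪≫ Groth.SitesTopoi.Invertible.unitTensorIso O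

/-- `ℤ/ℤ_U` of modules. -/
noncomputable def cokerUnitIso (U : C) :
    cokernel ((freeM O).map (toOne (yoneda.obj U))) ≅ (ModSite.quotOn O U).obj (ModSite.unit O) :=
  ((flipUnitIso (O := O)).app _).symm ≪≫ cokerTensorIso U (ModSite.unit O)

lemma subsingleton_ext_quotZ_toAb (U : C) (Q : ModSite.Mod O) [Injective Q] (q : ℕ) :
    Subsingleton (Abelian.Ext.{u} (ToposFin.quotZ (ToposFin.eps J U)) (ModSite.toAb Q) (q + 1)) := by
  have := hasSheafHom (ModSite.unit O)
  have h := subsingleton_ext_quotZ_sheafHom U (ModSite.unit O) Q q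
  let e : ModSite.sheafHom (ModSite.unit O) ≅ 𝟭 _ :=
    ((ModSite.sheafHomAdj (ModSite.unit O)).ofNatIsoLeft (flipUnitIso (O := O))).rightAdjointUniq Adjunction.id
  exact (extIsoRight ((SheafOfModules.toSheaf (ModSite.ringSh O)).mapIso (e.app Q)) _ (q + 1)).symm.subsingleton

/-- Ext out of `O/O_U` is cohomology with supports. -/
theorem nonempty_ext_quotOn_unit_equiv [HasExt.{u} (ModSite.Mod O)] [HasInjectiveResolutions (ModSite.Mod O)]
    (U : C) (F : ModSite.Mod O) (p : ℕ) :
    Nonempty (Abelian.Ext ((ModSite.quotOn O U).obj (ModSite.unit O)) F p ≃+ ModSite.HZ U F p) := by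
  let I : InjectiveResolution F := injectiveResolution F
  let G := SheafOfModules.toSheaf.{u} (ModSite.ringSh O)
  let ι : F ⟶ I.cocomplex.X 0 := I.ι.f 0
  have h : AcyclicRes.IsResolution I.cocomplex.X (fun n => I.cocomplex.d n (n + 1)) ι :=
    { mono := inferInstanceAs (Mono (I.ι.f 0))
      zero₀ := I.ι_f_zero_comp_complex_d
      exact₀ := I.exact₀
      zero := fun n => I.cocomplex.d_comp_d _ _ _
      exact := fun n => I.exact_succ n }
  let Y := (G.mapHomologicalComplex (ComplexShape.up ℕ)).obj I.cocomplex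
  have h' : AcyclicRes.IsResolution Y.X (fun n => Y.d n (n + 1)) (G.map ι) :=
    { mono := by have := h.mono; exact G.map_mono ι
      zero₀ := by rw [← G.map_zero, ← h.zero₀, G.map_comp]; rfl
      exact₀ := h.exact₀.map G
      zero := fun n => Y.d_comp_d _ _ _
      exact := fun n => (h.exact n).map G }
  let t := toOne (yoneda.obj U)
  obtain ⟨e₁⟩ := AcyclicRes.nonempty_homology_equiv_ext (cokernel ((freeM O).map t)) I.cocomplex ι h p
    fun n q _ => Abelian.Ext.subsingleton_of_injective _ _ q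
  obtain ⟨e₂⟩ := AcyclicRes.nonempty_homology_equiv_ext (ToposFin.quotZ (ToposFin.eps J U)) Y (G.map ι) h' p
    fun n q _ => subsingleton_ext_quotZ_toAb U (I.cocomplex.X n) q
  exact ⟨(extIsoLeft (cokerUnitIso U) F p).trans (e₁.symm.trans (((HomologicalComplex.homologyFunctor _ _ p).mapIso
    ((NatIso.mapHomologicalComplex (homCokerIso t ≪≫ Functor.isoWhiskerLeft _
      (preadditiveCoyoneda.mapIso (quotZIso U).op)) (ComplexShape.up ℕ)).app I.cocomplex)
      ).addCommGroupIsoToAddEquiv.trans e₂))⟩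

/-- The spectral sequence `H^p(C, ℋ^q_Z(M)) ⇒ H^{p+q}_Z(M)`. -/
theorem exists_supportHCSS (U : C) (N : ModSite.Mod O) [ModSite.HasPushOver O U]
    [HasInjectiveResolutions (ModSite.Mod O)] [HasExt.{u} (ModSite.Mod O)] (H : ℤ → AddCommGrpCat.{u})
    (hH : ∀ n : ℕ, Nonempty (AddCommGrpCat.of (ModSite.HZ U N n) ≅ H n))
    (hH' : ∀ n : ℤ, n < 0 → IsZero (H n))
    (P : ℤ → ℤ → AddCommGrpCat.{u})
    (hP : ∀ p q : ℕ, Nonempty (AddCommGrpCat.of (ModSite.HC O ((ModSite.HZsh O U q).obj N) p) ≅ P p q))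
    (hP' : ∀ p q : ℤ, ¬ (0 ≤ p ∧ 0 ≤ q) → IsZero (P p q)) :
    ∃ (E : E₂CohomologicalSpectralSequence AddCommGrpCat.{u}) (a : SpSeq.Abutment E H),
      (∀ n, a.IsFinite n) ∧ SpSeq.IsBounded E ∧
      ∀ p q : ℤ, Nonempty ((E.page 2 le_rfl).X (p, q) ≅ P p q) := by
  let G := ModSite.unit O
  have : PreservesFiniteLimits (preadditiveCoyoneda.obj (op G) ⋙ forget AddCommGrpCat.{u}) :=
    inferInstanceAs (PreservesFiniteLimits (coyoneda.obj (op G)))
  have : PreservesFiniteLimits (preadditiveCoyoneda.obj (op G)) :=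
    preservesFiniteLimits_of_reflects_of_preserves _ (forget AddCommGrpCat.{u})
  refine exists_composite (ModSite.sectOn O U) (preadditiveCoyoneda.obj (op G))
    (fun Q hQ q => ?_) N H (fun n => ?_) hH' P (fun p q => ?_) hP'
  · have := Groth.LocCohZBase.injective_sectOn U Q hQ
    exact Functor.isZero_rightDerived_obj_injective_succ _ q _
  · obtain ⟨i⟩ := hH n
    obtain ⟨e⟩ := nonempty_ext_quotOn_unit_equiv U N n
    obtain ⟨j⟩ := nonempty_rightDerived_comp_exact
      (preadditiveCoyoneda.obj (op ((ModSite.quotOn O U).obj G))) (𝟭 _)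
      (ModSite.sectOn O U ⋙ preadditiveCoyoneda.obj (op G))
      (Groth.LocCohZBase.homSectIso U G ≪≫ (Functor.rightUnitor _).symm) N n
    exact ⟨j ≪≫ (Groth.LocCohZBase.ExtDerived.derivedIso ((ModSite.quotOn O U).obj G) n).app N ≪≫
      AddEquiv.toAddCommGrpIso (X := AddCommGrpCat.of (Abelian.Ext.{u} ((ModSite.quotOn O U).obj G) N n))
        (Y := AddCommGrpCat.of (ModSite.HZ U N n)) e ≪≫ i⟩
  · obtain ⟨i⟩ := hP p q
    obtain ⟨⟨e⟩, -⟩ := Groth.LocCohZBase.nonempty_ext_unit_equiv O ((ModSite.HZsh O U q).obj N) p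
    exact ⟨(Groth.LocCohZBase.ExtDerived.derivedIso G p).app _ ≪≫
      AddEquiv.toAddCommGrpIso (X := AddCommGrpCat.of (Abelian.Ext.{u} G ((ModSite.HZsh O U q).obj N) p))
        (Y := AddCommGrpCat.of (ModSite.HC O ((ModSite.HZsh O U q).obj N) p)) e ≪≫ i⟩

end Groth.Misc7.GSS
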